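import Cfsg.Agent.Lib.Co2Type.Local.Base
import Cfsg.Agent.Lib.Co2Type.Code.Fast

/-!
A chain of orbits of the automorphism part with as many products as the group has elements: every element is
one product, so a search through the products with pruning finds all elements with given small displacements.
-/

set_option autoImplicit false
set_option maxRecDepth 20000

namespace Cfsg.Agent.Co2Type.Local.Kill

open Code

/-- Eight images from one number. -/
noncomputable def unp (n : ℕ) : List ℕ :=
  [0, 1, 2, 3, 4, 5, 6, 7].map fun i => Nat.mod (Nat.shiftRight n (Nat.mul 9 i)) 512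

/-- A table: steps `(kind, a, b, images)` and levels `(vector, places)`. -/
structure Tbl where
  /-- the steps: a generator, a product, a quotient or the identity -/
  prog : List (ℕ × ℕ × ℕ × ℕ)
  /-- the levels -/
  levels : List (ℕ × List ℕ)

variable (T : Tbl)

/-- The images at a place. -/
noncomputable def Tbl.img (i : ℕ) : List ℕ := unp (T.prog.getD i (3, 0, 0, 0)).2.2.2

/-- A step. -/
noncomputable def Tbl.stepOK (i : ℕ) : Bool :=
  match T.prog.getD i (9, 0, 0, 0) with
  | (0, k, _, n) => (List.finRange 7).any fun j => Nat.beq j.val k && unp n == autImg j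
  | (1, a, b, n) => Nat.blt a i && Nat.blt b i && unp n == (T.img b).map (appL (T.img a))
  | (2, s, a, n) => Nat.blt s i && Nat.blt a i && (unp n).map (appL (T.img s)) == T.img a
  | (3, _, _, n) => unp n == stdImg
  | _ => false

/-- All steps. -/
noncomputable def Tbl.progOK : Bool := (List.range T.prog.length).all T.stepOK

/-- The places of a level fix the earlier vectors and move the new one to different places. -/
noncomputable def Tbl.levOK : List ℕ → List (ℕ × List ℕ) → Bool
  | _, [] => true
  | bs, (b, l) :: rest => Nat.blt b 256 &&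
      (l.all fun k => Nat.blt k T.prog.length &&
        bs.all fun c => Nat.beq (Nat.mod (appL (T.img k) c) 256) c) &&
      distinctB (l.map fun k => Nat.mod (appL (T.img k) b) 256) && Tbl.levOK (bs ++ [b]) rest

/-- The whole table. -/
noncomputable def Tbl.ok : Bool :=
  T.progOK && T.levOK [] T.levels && Nat.beq ((T.levels.map fun p => p.2.length).foldr Nat.mul 1) 1451520

theorem unp_lt {n x : ℕ} (h : x ∈ unp n) : x < 512 := by
  obtain ⟨i, -, rfl⟩ := List.mem_map.1 h
  exact Nat.mod_lt _ (by norm_num)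

theorem appL_imgs (w : MulAut Q8) {x : ℕ} (hx : x < 512) : appL (imgs w) x = (w ⟨x, hx⟩).n :=
  (apply_eq w ⟨x, hx⟩).symm

theorem imgs_lt (w : MulAut Q8) {x : ℕ} (h : x ∈ imgs w) : x < 512 := by
  obtain ⟨e, -, rfl⟩ := List.mem_map.1 h
  exact Q8.lt _

variable {T}

theorem exists_img (h : T.progOK = true) : ∀ i < T.prog.length, ∃ w : ↥W, imgs w.1 = T.img i := by
  intro i
  induction i using Nat.strong_induction_on with
  | _ i ih =>
    intro hi
    have hs := List.all_eq_true.1 h i (List.mem_range.2 hi)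
    have e : T.prog.getD i (9, 0, 0, 0) = T.prog.getD i (3, 0, 0, 0) := by
      rw [List.getD_eq_getElem _ _ hi, List.getD_eq_getElem _ _ hi]
    rcases hp : T.prog.getD i (3, 0, 0, 0) with ⟨_ | _ | _ | _ | c, a, b, n⟩
    all_goals
      have hI : T.img i = unp n := by rw [Tbl.img, hp]
      rw [Tbl.stepOK, e, hp] at hs
    · simp only [List.any_eq_true, Bool.and_eq_true, beq_iff_eq] at hs
      obtain ⟨j, -, -, hj⟩ := hs
      exact ⟨⟨autA j, Subgroup.subset_closure ⟨j, rfl⟩⟩, by rw [imgs_autA, hI, hj]⟩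
    · simp only [Bool.and_eq_true, Nat.blt_eq, beq_iff_eq] at hs
      obtain ⟨⟨ha, hb⟩, hn⟩ := hs
      obtain ⟨wa, hwa⟩ := ih a ha (ha.trans hi)
      obtain ⟨wb, hwb⟩ := ih b hb (hb.trans hi)
      exact ⟨wa * wb, by rw [Subgroup.coe_mul, imgs_mul, hwa, hwb, hI, hn]⟩
    · simp only [Bool.and_eq_true, Nat.blt_eq, beq_iff_eq] at hs
      obtain ⟨⟨ha, hb⟩, hn⟩ := hs
      obtain ⟨ws, hws⟩ := ih a ha (ha.trans hi)
      obtain ⟨wa, hwa⟩ := ih b hb (hb.trans hi)
      refine ⟨ws⁻¹ * wa, ?_⟩
      have h1 : (imgs ((ws⁻¹ * wa : ↥W) : MulAut Q8)).map (appL (imgs ws.1)) = (unp n).map (appL (imgs ws.1)) := by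
        rw [← imgs_mul, ← Subgroup.coe_mul, mul_inv_cancel_left, hwa, hws, hn]
      rw [hI]
      have inj : ∀ l l' : List ℕ, (∀ x ∈ l, x < 512) → (∀ x ∈ l', x < 512) →
          l.map (appL (imgs ws.1)) = l'.map (appL (imgs ws.1)) → l = l' := by
        intro l
        induction l with
        | nil => intro l' _ _ e; exact (List.map_eq_nil_iff.1 e.symm).symm
        | cons x l ihl =>
          intro l' h1 h2 e
          rcases l' with _ | ⟨y, l'⟩
          · simp at e
          · simp only [List.map_cons, List.cons.injEq] at e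
            have hx := h1 x (List.mem_cons_self ..)
            have hy := h2 y (List.mem_cons_self ..)
            rw [appL_imgs _ hx, appL_imgs _ hy] at e
            rw [ihl l' (fun z hz => h1 z (List.mem_cons_of_mem _ hz)) (fun z hz => h2 z (List.mem_cons_of_mem _ hz))
              e.2, show x = y from congrArg Q8.n (ws.1.injective (Q8.ext e.1))]
      exact inj _ _ (fun x hx => imgs_lt _ hx) (fun x hx => unp_lt hx) h1
    · replace hs : unp n = stdImg := beq_iff_eq.1 hs
      exact ⟨1, by rw [hI, hs]; exact congrArg Prod.snd code_one⟩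
    · simp at hs

variable (T)

/-- The element at a place. -/
noncomputable def Tbl.ew (i : ℕ) : ↥W :=
  Classical.epsilon fun w : ↥W => imgs (w.1 : MulAut Q8) = T.img i

variable {T}

theorem imgs_ew (h : T.progOK = true) {i : ℕ} (hi : i < T.prog.length) : imgs (T.ew i).1 = T.img i :=
  Classical.epsilon_spec (p := fun w : ↥W => imgs w.1 = T.img i) (exists_img h i hi)

variable (T)

/-- The products along levels. -/
noncomputable def Tbl.prods : List (ℕ × List ℕ) → List ↥W
  | [] => [1]
  | (_, l) :: rest => l.flatMap fun k => (Tbl.prods rest).map fun v => T.ew k * v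

variable {T}

/-- A vector as an element. -/
def vq (b : ℕ) : Q8 := ⟨b % 512, Nat.mod_lt _ (by norm_num)⟩

theorem lo_vq {b : ℕ} (hb : b < 256) : lo (vq b) = b := by
  show b % 512 % 256 = b
  omega

theorem lo_app (w : MulAut Q8) {b : ℕ} (hb : b < 256) : appL (imgs w) b % 256 = lo (w (vq b)) := by
  rw [appL_imgs w (hb.trans (by norm_num))]
  have e : (⟨b, hb.trans (by norm_num)⟩ : Q8) = vq b := Q8.ext (Nat.mod_eq_of_lt (hb.trans (by norm_num))).symm
  rw [e]
  rfl

/-- An element fixing a vector. -/
def Fixes (w : ↥W) (b : ℕ) : Prop := lo (w.1 (vq b)) = b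

theorem Fixes.mul {v w : ↥W} {b : ℕ} (hb : b < 256) (hv : Fixes v b) (hw : Fixes w b) : Fixes (v * w) b := by
  show lo (v.1 (w.1 (vq b))) = b
  rw [lo_congr v.1 (b := vq b) (hw.trans (lo_vq hb).symm)]
  exact hv

theorem ew_fix (h : T.progOK = true) {bs : List ℕ} {b : ℕ} {l : List ℕ} {rest : List (ℕ × List ℕ)}
    (hl : T.levOK bs ((b, l) :: rest) = true) {k : ℕ} (hk : k ∈ l) {c : ℕ} (hc : c ∈ bs) (hc2 : c < 256) :
    Fixes (T.ew k) c := by
  simp only [Tbl.levOK, Bool.and_eq_true, List.all_eq_true, Nat.blt_eq, Nat.beq_eq] at hl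
  obtain ⟨hk1, hk2⟩ := hl.1.1.2 k hk
  rw [Fixes, ← lo_app _ hc2, imgs_ew h hk1]
  exact hk2 c hc

theorem prods_spec (h : T.progOK = true) : ∀ (lv : List (ℕ × List ℕ)) (bs : List ℕ), (∀ c ∈ bs, c < 256) →
    T.levOK bs lv = true →
    (T.prods lv).Nodup ∧ (∀ w ∈ T.prods lv, ∀ c ∈ bs, Fixes w c) ∧
      (T.prods lv).length = (lv.map fun p => p.2.length).foldr Nat.mul 1
  | [], bs, hbs, _ => ⟨List.nodup_singleton _, fun w hw c hc => by
      rw [List.mem_singleton.1 hw]; exact lo_vq (hbs c hc), rfl⟩
  | (b, l) :: rest, bs, hbs, hl => by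
    have hl' := hl
    simp only [Tbl.levOK, Bool.and_eq_true, List.all_eq_true, Nat.blt_eq, Nat.beq_eq] at hl'
    obtain ⟨⟨⟨hb, hk⟩, hd⟩, hrest⟩ := hl'
    have hbs' : ∀ c ∈ bs ++ [b], c < 256 := fun c hc => by
      rcases List.mem_append.1 hc with hc | hc
      · exact hbs c hc
      · rw [List.mem_singleton.1 hc]; exact hb
    obtain ⟨ih1, ih2, ih3⟩ := prods_spec h rest (bs ++ [b]) hbs' hrest
    refine ⟨List.nodup_flatMap.2 ⟨fun k _ => ih1.map fun a a' e => mul_left_cancel e, ?_⟩, ?_, ?_⟩
    · have hp : l.Pairwise fun k k' =>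
          appL (T.img k) b % 256 ≠ appL (T.img k') b % 256 := by
        have hnd : ∀ {ns : List ℕ}, distinctB ns = true → ns.Pairwise (· ≠ ·) := by
          intro ns
          induction ns with
          | nil => intro _; exact List.Pairwise.nil
          | cons a ns ih =>
            intro hns
            simp only [distinctB, Bool.and_eq_true, List.all_eq_true, Bool.not_eq_true'] at hns
            exact List.pairwise_cons.2 ⟨fun c hc e => by simpa [e] using hns.1 c hc, ih hns.2⟩
        exact List.pairwise_map.1 (hnd hd)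
      refine hp.imp_of_mem ?_
      intro k k' hkm hkm' hne
      refine fun w hw hw' => hne ?_
      obtain ⟨v, hv, rfl⟩ := List.mem_map.1 hw
      obtain ⟨v', hv', e⟩ := List.mem_map.1 hw'
      have img : ∀ j ∈ l, ∀ u ∈ T.prods rest, lo ((T.ew j * u).1 (vq b)) = appL (T.img j) b % 256 := by
        intro j hj u hu
        rw [← imgs_ew h (hk j hj).1, lo_app _ hb]
        show lo ((T.ew j).1 (u.1 (vq b))) = _
        exact lo_congr _ ((ih2 u hu b (List.mem_append_right _ (List.mem_singleton.2 rfl))).trans (lo_vq hb).symm)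
      rw [← img k hkm v hv, ← img k' hkm' v' hv', e]
    · intro w hw c hc
      obtain ⟨k, hkm, hw⟩ := List.mem_flatMap.1 hw
      obtain ⟨v, hv, rfl⟩ := List.mem_map.1 hw
      exact (ew_fix h hl hkm hc (hbs c hc)).mul (hbs c hc) (ih2 v hv c (List.mem_append_left _ hc))
    · simp [Tbl.prods, List.length_flatMap, ih3]

theorem mem_prods (h : T.ok = true) (w : ↥W) : w ∈ T.prods T.levels := by
  classical
  simp only [Tbl.ok, Bool.and_eq_true, Nat.beq_eq] at h
  obtain ⟨⟨h1, h2⟩, h3⟩ := h
  obtain ⟨hnd, -, hlen⟩ := prods_spec h1 T.levels [] (by simp) h2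
  have := finite_W
  haveI := Fintype.ofFinite ↥W
  have hc : (T.prods T.levels).toFinset.card = Fintype.card ↥W := by
    rw [List.toFinset_card_of_nodup hnd, hlen, h3, ← Nat.card_eq_fintype_card, card_W]
  exact List.mem_toFinset.1 (by rw [Finset.card_eq_iff_eq_univ _ |>.1 hc]; exact Finset.mem_univ _)

variable (T)

/-- The search: products whose images of the vectors are allowed are tested. -/
noncomputable def Tbl.scan (allow : ℕ → ℕ → Bool) (chk : List ℕ → Bool) : List (ℕ × List ℕ) → List ℕ → Bool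
  | [], p => chk p
  | (b, l) :: rest, p => l.all fun k =>
      !allow b (Nat.mod (appL p (appL (T.img k) b)) 256) || Tbl.scan allow chk rest ((T.img k).map (appL p))

variable {T}

theorem scan_sound (h : T.progOK = true) {allow : ℕ → ℕ → Bool} {chk : List ℕ → Bool} :
    ∀ (lv : List (ℕ × List ℕ)) (bs : List ℕ) (p : ↥W), (∀ c ∈ bs, c < 256) → T.levOK bs lv = true →
      T.scan allow chk lv (imgs p.1) = true → ∀ v ∈ T.prods lv,
      (∀ q ∈ lv, allow q.1 (lo ((p * v).1 (vq q.1))) = true) → chk (imgs (p * v).1) = true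
  | [], bs, p, _, _, hs, v, hv, _ => by
    rw [List.mem_singleton.1 hv, mul_one]
    exact hs
  | (b, l) :: rest, bs, p, hbs, hl, hs, v, hv, hall => by
    have hl' := hl
    simp only [Tbl.levOK, Bool.and_eq_true, List.all_eq_true, Nat.blt_eq, Nat.beq_eq] at hl'
    obtain ⟨⟨⟨hb, hk⟩, -⟩, hrest⟩ := hl'
    have hbs' : ∀ c ∈ bs ++ [b], c < 256 := fun c hc => by
      rcases List.mem_append.1 hc with hc | hc
      · exact hbs c hc
      · rw [List.mem_singleton.1 hc]; exact hb
    obtain ⟨k, hkm, hv⟩ := List.mem_flatMap.1 hv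
    obtain ⟨u, hu, rfl⟩ := List.mem_map.1 hv
    have hfix := (prods_spec h rest (bs ++ [b]) hbs' hrest).2.1 u hu b
      (List.mem_append_right _ (List.mem_singleton.2 rfl))
    have hi := imgs_ew h (hk k hkm).1
    have hs' := List.all_eq_true.1 hs k hkm
    have e1 : Nat.mod (appL (imgs p.1) (appL (T.img k) b)) 256 = lo ((p * (T.ew k * u)).1 (vq b)) := by
      rw [← hi, appL_imgs _ (hb.trans (by norm_num)), ← apply_eq]
      show lo (p.1 ((T.ew k).1 _)) = lo (p.1 ((T.ew k).1 (u.1 (vq b))))
      refine lo_congr _ (lo_congr _ ?_)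
      rw [show lo (u.1 (vq b)) = b from hfix]
      show b % 256 = b
      omega
    rw [e1, hall (b, l) (List.mem_cons_self ..), Bool.not_true, Bool.false_or, ← hi, ← imgs_mul,
      ← Subgroup.coe_mul] at hs'
    rw [← mul_assoc]
    exact scan_sound h rest (bs ++ [b]) (p * T.ew k) hbs' hrest hs' u hu fun q hq => by
      rw [mul_assoc]
      exact hall q (List.mem_cons_of_mem _ hq)

/-- The result of the search. -/
theorem forall_of_scan (h : T.ok = true) {allow : ℕ → ℕ → Bool} {chk : List ℕ → Bool}
    (hs : T.scan allow chk T.levels stdImg = true) (w : ↥W)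
    (hw : ∀ q ∈ T.levels, allow q.1 (lo (w.1 (vq q.1))) = true) : chk (imgs w.1) = true := by
  have h' := h
  simp only [Tbl.ok, Bool.and_eq_true, Nat.beq_eq] at h'
  have := scan_sound h'.1.1 T.levels [] 1 (by simp) h'.1.2
    (by rw [show imgs ((1 : ↥W) : MulAut Q8) = stdImg from congrArg Prod.snd code_one]; exact hs) w (mem_prods h w)
    (by simpa using hw)
  simpa using this

end Cfsg.Agent.Co2Type.Local.Kill
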