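import Cfsg.Agent.Lib.Co2Type.Local.Kill.Split

/-!
When the centraliser is the code group, the classes of second conjugates are among three: the two classes of
roots and one more.
-/

set_option autoImplicit false
set_option maxRecDepth 100000

namespace Cfsg.Agent.Co2Type.Local.Kill

open Code End

variable {G : Type*} [Group G]

/-- The centraliser is the code group, with weak closure, and two classes are already excluded. -/
structure SplitHyp (φ : C0 →* G) : Prop where
  inj : Function.Injective φ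
  range_eq : φ.range = Subgroup.centralizer ({φ tau} : Set G)
  weak : ∀ g (k : C0), k.right = 1 → g * φ tau * g⁻¹ = φ k → k = tau
  no39 : ∀ g x, g * φ tau * g⁻¹ = φ x → ¬ IsConj (el (repW 3)) x ∧ ¬ IsConj (el (repW 9)) x

theorem rep_right : (el (repW 1)).right = 1 := Subtype.ext (imgs_injective
  (((congrArg Prod.snd (code_el' (repW 1))).trans (by decide +kernel : (cw (repW 1)).2 = stdImg)).trans
    (congrArg Prod.snd code_one).symm))

theorem rep_ne_tau : ∀ k : Fin 10, k ≠ 0 → el (repW k) ≠ tau := fun k hk => by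
  have h : ∀ k : Fin 10, k = 0 ∨ Code.beqC (cw (repW k)) (cw tauW) = false := by decide +kernel
  exact el_ne_of_cw ((h k).resolve_left hk)

theorem card_filter_le {x : C0} {c : ℕ × List ℕ} (hc : code x = c) :
    ((List.range 512).filter (fixN c)).length ≤ Nat.card (FixQ x) := by
  subst hc
  have := finite_C0
  set l := (List.range 512).filter (fixN (code x))
  have hm : ∀ i : Fin l.length, qi (l.get i) ∈ FixQ x := fun i => by
    have := List.mem_filter.1 (List.get_mem l i)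
    exact qi_mem_FixQ (List.mem_range.1 this.1) this.2
  have := Nat.card_le_card_of_injective (fun i => (⟨qi (l.get i), hm i⟩ : FixQ x)) fun i j e => by
    have h := congrArg Q8.n (SemidirectProduct.inl_injective (φ := W.subtype) (congrArg Subtype.val e))
    rw [vq_n (List.mem_range.1 (List.mem_filter.1 (List.get_mem l i)).1),
      vq_n (List.mem_range.1 (List.mem_filter.1 (List.get_mem l j)).1)] at h
    exact List.nodup_iff_injective_get.1 ((List.nodup_range).filter _) h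
  simpa using this

theorem card_FixQ_conj {x y z : C0} (h : z * x * z⁻¹ = y) : Nat.card (FixQ x) ≤ Nat.card (FixQ y) := by
  have := finite_C0
  exact Nat.card_le_card_of_injective (fun k => (⟨z * k.1 * z⁻¹, FixQ_conj h k.2⟩ : FixQ y))
    fun a b e => Subtype.ext (mul_left_cancel (mul_right_cancel (congrArg Subtype.val e)))

variable {φ : C0 →* G}

theorem SplitHyp.central (H : SplitHyp φ) (c : C0) : φ c * φ tau = φ tau * φ c :=
  Subgroup.mem_centralizer_singleton_iff.1 (H.range_eq ▸ (⟨c, rfl⟩ : φ c ∈ φ.range))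

theorem SplitHyp.tau_central (H : SplitHyp φ) (c : C0) : c * tau = tau * c :=
  H.inj (by rw [map_mul, map_mul, H.central])

/-- The classes of second conjugates. -/
theorem SplitHyp.cases (H : SplitHyp φ) {g : G} {x : C0} (hg : g * φ tau * g⁻¹ = φ x) (hx : x ≠ tau) :
    ∃ j : Fin 10, j.val ∈ [2, 4, 5, 6, 7, 8] ∧ IsConj (el (repW j)) x := by
  have htt : tau * tau = 1 := by
    rw [tau_eq_inl, ← map_mul, show zt * zt = 1 from Q8.ext (by decide +kernel : qmulN 256 256 = 0), map_one]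
  have hxx : x * x = 1 := H.inj (by
    rw [map_mul, ← hg, map_one]
    calc g * φ tau * g⁻¹ * (g * φ tau * g⁻¹) = g * φ (tau * tau) * g⁻¹ := by rw [map_mul]; group
      _ = 1 := by rw [htt, map_one, mul_one, mul_inv_cancel])
  have hx1 : x ≠ 1 := fun e => by
    rw [e, map_one] at hg
    have := H.inj ((conj_eq_one_iff.1 hg).trans (map_one φ).symm)
    have h2 : Code.beqC (cw tauW) (cw []) = false := by decide +kernel
    exact el_ne_of_cw h2 this
  rcases cases_sq_one hxx with h | ⟨j, hj⟩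
  · exact absurd h hx1
  have h39 := H.no39 g x hg
  have h0 : j ≠ 0 := by
    rintro rfl
    obtain ⟨c, hc⟩ := isConj_iff.1 hj
    refine hx ?_
    rw [← hc, show el (repW 0) = tau from rfl, H.tau_central, mul_inv_cancel_right]
  have h1 : j ≠ 1 := by
    rintro rfl
    obtain ⟨c, hc⟩ := isConj_iff.1 hj
    exact hx (H.weak g x (by rw [← hc]; simp [SemidirectProduct.mul_right, rep_right]) hg)
  refine ⟨j, ?_, hj⟩
  have h3 : j ≠ 3 := fun e => h39.1 (e ▸ hj)
  have h9 : j ≠ 9 := fun e => h39.2 (e ▸ hj)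
  exact (by decide : ∀ i : Fin 10, i ≠ 0 → i ≠ 1 → i ≠ 3 → i ≠ 9 → i.val ∈ [2, 4, 5, 6, 7, 8]) j h0 h1 h3 h9

/-- A second conjugate in a class gives a subgroup and a class for the first seen from it. -/
theorem SplitHyp.exists_R (H : SplitHyp φ) {m : G} {k : Fin 10} (hm : m * φ tau * m⁻¹ = φ (el (repW k)))
    (hk : k ≠ 0) : ∃ (j : Fin 10) (m' : G) (x' : C0) (R : Subgroup C0), j.val ∈ [2, 4, 5, 6, 7, 8] ∧
      IsConj (el (repW j)) x' ∧ RSize (el (repW k)) x' R ∧
      m' * φ tau * m'⁻¹ = φ (el (repW j)) ∧ ∃ y, IsConj (el (repW k)) y ∧ m'⁻¹ * φ tau * m' = φ y := by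
  have hu : m⁻¹ * φ (el (repW k)) * m⁻¹⁻¹ = φ tau := by rw [← hm]; group
  obtain ⟨x', hx'⟩ : ∃ x', φ x' = m⁻¹ * φ tau * m⁻¹⁻¹ := (H.range_eq ▸ Subgroup.mem_centralizer_singleton_iff.2
    (by
      have h : m⁻¹ * φ tau * m⁻¹⁻¹ * (m⁻¹ * φ (el (repW k)) * m⁻¹⁻¹) =
          m⁻¹ * φ (el (repW k)) * m⁻¹⁻¹ * (m⁻¹ * φ tau * m⁻¹⁻¹) := by
        calc _ = m⁻¹ * (φ tau * φ (el (repW k))) * m⁻¹⁻¹ := by group
          _ = m⁻¹ * (φ (el (repW k)) * φ tau) * m⁻¹⁻¹ := by rw [H.central]
          _ = _ := by group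
      rwa [hu] at h) : m⁻¹ * φ tau * m⁻¹⁻¹ ∈ φ.range)
  have hne : x' ≠ tau := fun e => by
    rw [e] at hx'
    refine rep_ne_tau k hk (H.inj ?_)
    rw [← hm]
    calc m * φ tau * m⁻¹ = m * (m⁻¹ * φ tau * m⁻¹⁻¹) * m⁻¹ := by rw [← hx']
      _ = φ tau := by group
  obtain ⟨j, hj, hc⟩ := H.cases hx'.symm hne
  obtain ⟨R, hR⟩ := exists_rset φ H.inj H.range_eq H.weak hu hx'.symm (rep_ne_tau k hk)
  obtain ⟨z, hz⟩ := isConj_iff.1 hc
  refine ⟨j, (φ z)⁻¹ * m⁻¹, x', R, hj, hc, hR, ?_, el (repW k), IsConj.refl _, ?_⟩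
  · calc (φ z)⁻¹ * m⁻¹ * φ tau * ((φ z)⁻¹ * m⁻¹)⁻¹ = (φ z)⁻¹ * (m⁻¹ * φ tau * m⁻¹⁻¹) * φ z := by group
      _ = (φ z)⁻¹ * φ x' * φ z := by rw [hx']
      _ = φ (el (repW j)) := by rw [← hz, map_mul, map_mul, map_inv]; group
  · calc ((φ z)⁻¹ * m⁻¹)⁻¹ * φ tau * ((φ z)⁻¹ * m⁻¹) = m * (φ z * φ tau) * (φ z)⁻¹ * m⁻¹ := by group
      _ = m * (φ tau * φ z) * (φ z)⁻¹ * m⁻¹ := by rw [H.central]
      _ = φ (el (repW k)) := by rw [← hm]; group

theorem le_card_R {k j : Fin 10} {x' : C0} {R : Subgroup C0} (hR : RSize (el (repW k)) x' R)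
    (hc : IsConj (el (repW j)) x') : ((List.range 512).filter (fixN (cw (repW j)))).length ≤ Nat.card R := by
  obtain ⟨z, hz⟩ := isConj_iff.1 hc
  exact (card_filter_le (code_el' _)).trans ((card_FixQ_conj hz).trans hR.card_le)

theorem thirty_two {j : Fin 10} (hj : j.val ∈ [2, 4, 5, 6, 7, 8]) :
    32 ≤ ((List.range 512).filter (fixN (cw (repW j)))).length := by
  have h := fix_count j (by simp only [List.mem_cons] at hj ⊢; tauto)
  simp only [Bool.and_eq_true, Bool.or_eq_true, Nat.beq_eq, Nat.ble_eq] at h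
  rcases h.1.1.2 with (e | e) | e
  · rw [e] at hj; simp at hj
  · rw [e] at hj; simp at hj
  · exact e

theorem SplitHyp.not5 (H : SplitHyp φ) (m : G) : m * φ tau * m⁻¹ ≠ φ (el (repW 5)) := fun hm => by
  obtain ⟨j, -, x', R, hj, hc, hR, -⟩ := H.exists_R hm (by decide)
  have h := data5_ok
  simp only [Bool.and_eq_true, Nat.ble_eq, List.isEmpty_iff] at h
  exact no_large (d := data5) hR.toRSet h.1.1.1.1.1 h.1.1.1.1.2 h.1.1.1.2 h.1.2 h.2
    ((h.1.1.2.trans (thirty_two hj)).trans (le_card_R hR hc))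

theorem SplitHyp.not6 (H : SplitHyp φ) (m : G) : m * φ tau * m⁻¹ ≠ φ (el (repW 6)) := fun hm => by
  obtain ⟨j, -, x', R, hj, hc, hR, -⟩ := H.exists_R hm (by decide)
  have h := data6_ok
  simp only [Bool.and_eq_true, Nat.ble_eq, List.isEmpty_iff] at h
  exact no_large (d := data6) hR.toRSet h.1.1.1.1.1 h.1.1.1.1.2 h.1.1.1.2 h.1.2 h.2
    ((h.1.1.2.trans (thirty_two hj)).trans (le_card_R hR hc))

/-- Seen from the two small classes the third class is impossible. -/
theorem SplitHyp.not_pair (H : SplitHyp φ) {k : Fin 10} (hk : k.val = 7 ∨ k.val = 8) {m : G}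
    (hm : m * φ tau * m⁻¹ = φ (el (repW k))) {y : C0} (hy : m⁻¹ * φ tau * m = φ y)
    (hc : IsConj (el (repW 2)) y) : False := by
  have hu : m⁻¹ * φ (el (repW k)) * m⁻¹⁻¹ = φ tau := by rw [← hm]; group
  obtain ⟨R, hR⟩ := exists_rset φ H.inj H.range_eq H.weak hu (by rw [inv_inv, hy])
    (rep_ne_tau k (by rintro rfl; simp at hk))
  have h64 := fix_count 2 (by decide)
  simp only [Bool.and_eq_true, Bool.or_eq_true, Nat.ble_eq, Bool.not_eq_true'] at h64
  have hle := (h64.1.2.resolve_left (by decide)).trans (le_card_R hR hc)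
  rcases hk with hk | hk
  · obtain rfl : k = 7 := Fin.ext hk
    have h := data7_ok
    simp only [Bool.and_eq_true, Nat.ble_eq, List.isEmpty_iff] at h
    have := (card_le_found (d := data7) hR.toRSet h.1.1.1 h.1.1.2 h.1.2).2.1
    have := h.2
    omega
  · obtain rfl : k = 8 := Fin.ext hk
    have h := data8_ok
    simp only [Bool.and_eq_true, Nat.ble_eq, List.isEmpty_iff] at h
    have := (card_le_found (d := data8) hR.toRSet h.1.1.1 h.1.1.2 h.1.2).2.1
    have := h.2
    omega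

theorem SplitHyp.not2 (H : SplitHyp φ) (m : G) : m * φ tau * m⁻¹ ≠ φ (el (repW 2)) := fun hm => by
  obtain ⟨j, m', x', R, hj, hc, hR, hm', y, hy, hy'⟩ := H.exists_R hm (by decide)
  have hroot : j.val = 2 ∨ j.val = 4 := by
    simp only [List.mem_cons, List.not_mem_nil, or_false] at hj
    rcases hj with e | e | e | e | e | e
    · exact Or.inl e
    · exact Or.inr e
    · exact absurd ((Fin.ext e : j = 5) ▸ hm') (H.not5 m')
    · exact absurd ((Fin.ext e : j = 6) ▸ hm') (H.not6 m')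
    · exact (H.not_pair (Or.inl e) hm' hy' hy).elim
    · exact (H.not_pair (Or.inr e) hm' hy' hy).elim
  have hf := fix_count j (by simp only [List.mem_cons] at hj ⊢; tauto)
  simp only [Bool.and_eq_true, Bool.or_eq_true, Nat.beq_eq, Bool.not_eq_true', Bool.or_eq_false_iff,
    List.any_eq_true, List.mem_range] at hf
  obtain ⟨v, hv, hfv, hsq⟩ := hf.2.resolve_left (by
    rintro ⟨h2, h4⟩
    rcases hroot with e | e <;> simp [e] at h2 h4)
  obtain ⟨z, hz⟩ := isConj_iff.1 hc
  have hk : qi v ∈ FixQ (el (repW j)) := qi_mem_FixQ hv (by rwa [code_el'])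
  have hkk : qi v * qi v = tau := by
    rw [tau_eq_inl, qi, ← map_mul]
    exact congrArg _ (Q8.ext (by rw [Q8.mul_n, vq_n hv]; exact hsq))
  obtain ⟨r, hr, hrr⟩ := hR.root _ (FixQ_conj hz hk) (by
    rw [show z * qi v * z⁻¹ * (z * qi v * z⁻¹) = z * (qi v * qi v) * z⁻¹ by group, hkk, H.tau_central,
      mul_inv_cancel_right])
  have h := data2_ok
  simp only [Bool.and_eq_true] at h
  exact no_root (d := data2) hR.toRSet h.1 h.2 hr hrr

/-- Three classes remain. -/
theorem SplitHyp.cases3 (H : SplitHyp φ) {g : G} {x : C0} (hg : g * φ tau * g⁻¹ = φ x) :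
    x = tau ∨ IsConj (el (repW 4)) x ∨ IsConj (el (repW 7)) x ∨ IsConj (el (repW 8)) x := by
  refine Or.imp_right (fun hx => ?_) (em (x = tau))
  obtain ⟨j, hj, hc⟩ := H.cases hg hx
  obtain ⟨z, hz⟩ := isConj_iff.1 hc
  have hm : (φ z)⁻¹ * g * φ tau * ((φ z)⁻¹ * g)⁻¹ = φ (el (repW j)) := by
    calc (φ z)⁻¹ * g * φ tau * ((φ z)⁻¹ * g)⁻¹ = (φ z)⁻¹ * (g * φ tau * g⁻¹) * φ z := by group
      _ = _ := by rw [hg, ← hz, map_mul, map_mul, map_inv]; group
  simp only [List.mem_cons, List.not_mem_nil, or_false] at hj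
  rcases hj with e | e | e | e | e | e
  · exact absurd ((Fin.ext e : j = 2) ▸ hm) (H.not2 _)
  · exact Or.inl ((Fin.ext e : j = 4) ▸ hc)
  · exact absurd ((Fin.ext e : j = 5) ▸ hm) (H.not5 _)
  · exact absurd ((Fin.ext e : j = 6) ▸ hm) (H.not6 _)
  · exact Or.inr (Or.inl ((Fin.ext e : j = 7) ▸ hc))
  · exact Or.inr (Or.inr ((Fin.ext e : j = 8) ▸ hc))

end Cfsg.Agent.Co2Type.Local.Kill
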