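import Cfsg.Agent.Lib.Co2Type.Code.Roots.Ord
import Cfsg.Agent.Lib.Co2Type.Code.Fast
import Cfsg.Agent.Lib.Co2Type.Code.Decode
import Cfsg.Agent.Lib.Co2Type.Local.Kill.KeyTree

/-!
Counts of third conjugates for triangles, on the table of roots extended by the products of the first class with
the involution.
-/

set_option autoImplicit false
set_option maxRecDepth 100000
set_option Elab.async false

namespace Cfsg.Agent.Co2Type.Local.Kill

open Code

/-- The code at a place of the extended table. -/
noncomputable def entI (i : ℕ) : ℕ × List ℕ :=
  bif Nat.blt i 2269 then Roots.rootC i else mulC (256, stdImg) (Roots.rootC (Nat.sub i 2268))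

/-- The places of the classes present. -/
noncomputable def places (h7 h4 : Bool) : List ℕ :=
  0 :: List.range' 2269 1008 ++ (bif h7 then List.range' 1 1008 else []) ++ bif h4 then List.range' 1009 1260 else []

/-- Two places commute. -/
noncomputable def commP (i j : ℕ) : Bool := Roots.beqC (mulC (entI i) (entI j)) (mulC (entI j) (entI i))

/-- Search in a tree. -/
noncomputable def KTree.find : KTree → ℕ → ℕ
  | .leaf, _ => 3277
  | .node k i a b, x => bif Nat.beq x k then i else bif Nat.blt x k then a.find x else b.find x

/-- A place is among those present. -/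
noncomputable def inP (h7 h4 : Bool) (i : ℕ) : Bool :=
  Nat.beq i 0 || (Nat.ble 2269 i && Nat.blt i 3277) || (h7 && Nat.ble 1 i && Nat.blt i 1009) ||
    (h4 && Nat.ble 1009 i && Nat.blt i 2269)

/-- A code is at a place present. -/
noncomputable def memP (h7 h4 : Bool) (z : ℕ × List ℕ) : Bool :=
  (fun k => inP h7 h4 k && Roots.beqC (entI k) z) (keyTree.find (keyC z))

/-- The third conjugates for two places. -/
noncomputable def thirds (h7 h4 : Bool) (a b : ℕ) : List ℕ :=
  (places h7 h4).filter fun c => (Nat.beq a 0 || commP c a) && commP c b && !Nat.beq c a && !Nat.beq c b &&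
    memP h7 h4 (mulC (entI c) (mulC (entI a) (entI b)))

/-- The thirds for the involution and the root of the second class. -/
def thirds4 : List ℕ := [1071, 1090, 1144, 1170, 1194, 1256, 1399, 1482, 1496, 1510, 1531, 1580, 1595, 1598, 1725, 1738, 1742, 1764, 1773, 1799, 1821, 1831, 1892, 1941, 1969, 1970, 1975, 1976, 1992, 2020, 2057, 2090, 2093, 2102, 2206, 2214]

/-- The thirds for the involution and the first root of a class. -/
def thirdsT (r : ℕ) : List ℕ := bif Nat.beq r 1009 then thirds4 else []

/-- The data of a case: a second place and the count. -/
def caseData (h7 h4 : Bool) : ℕ × ℕ :=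
  bif h4 then (bif h7 then (1041, 2) else (1057, 4)) else (bif h7 then (2275, 14) else (2275, 6))

/-- The first places of the classes present. -/
noncomputable def firsts (h7 h4 : Bool) : List ℕ :=
  2269 :: (bif h7 then [1] else []) ++ bif h4 then [1009] else []

/-- The thirds for the involution are the listed ones. -/
noncomputable def lowOK (h7 h4 : Bool) : Bool :=
  (firsts h7 h4).all fun r => thirds h7 h4 0 r == thirdsT r

/-- The second class never gives two or four. -/
noncomputable def lowW (l : List ℕ) : Bool :=
  l.all fun w => !commP w 1009 || (fun m => !Nat.beq m 2 && !Nat.beq m 4)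
    (thirds4.filter fun c => commP c w).length

/-- Some triangle has it. -/
noncomputable def highOK (h7 h4 : Bool) : Bool :=
  let w := (caseData h7 h4).1
  commP 2269 w && inP h7 h4 w &&
    Nat.beq (thirds h7 h4 2269 w).length (caseData h7 h4).2

theorem case_ff : (lowOK false false && highOK false false) = true := by decide +kernel

theorem case_tf : (lowOK true false && highOK true false) = true := by decide +kernel

theorem case_ft : (lowOK false true && highOK false true) = true := by decide +kernel

theorem case_tt : (lowOK true true && highOK true true) = true := by decide +kernel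

theorem case_ok : ∀ h7 h4, (lowOK h7 h4 && highOK h7 h4) = true
  | false, false => case_ff
  | true, false => case_tf
  | false, true => case_ft
  | true, true => case_tt

theorem lowW0 : lowW (List.range' 0 1100) = true := by decide +kernel

theorem lowW1 : lowW (List.range' 1100 600) = true := by decide +kernel

theorem lowW2 : lowW (List.range' 1700 800) = true := by decide +kernel

theorem lowW3 : lowW (List.range' 2500 777) = true := by decide +kernel

/-- No place gives two or four thirds with the root of the second class. -/
theorem lowW_all {w : ℕ} (hw : w < 3277) (hc : commP w 1009 = true) :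
    (thirds4.filter fun c => commP c w).length ≠ 2 ∧ (thirds4.filter fun c => commP c w).length ≠ 4 := by
  have key : ∀ {l : List ℕ}, lowW l = true → w ∈ l →
      (thirds4.filter fun c => commP c w).length ≠ 2 ∧ (thirds4.filter fun c => commP c w).length ≠ 4 := by
    intro l hl hm
    have h := List.all_eq_true.1 hl w hm
    simp only [hc, Bool.not_true, Bool.false_or, Bool.and_eq_true, Bool.not_eq_true'] at h
    exact ⟨fun e => by rw [e] at h; exact absurd h.1 (by decide),
      fun e => by rw [e] at h; exact absurd h.2 (by decide)⟩
  rcases Nat.lt_or_ge w 1100 with h | h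
  · exact key lowW0 (List.mem_range'_1.2 ⟨Nat.zero_le _, by omega⟩)
  rcases Nat.lt_or_ge w 1700 with h' | h'
  · exact key lowW1 (List.mem_range'_1.2 ⟨h, by omega⟩)
  rcases Nat.lt_or_ge w 2500 with h'' | h''
  · exact key lowW2 (List.mem_range'_1.2 ⟨h', by omega⟩)
  · exact key lowW3 (List.mem_range'_1.2 ⟨h'', by omega⟩)

theorem find_ok : ((List.range 3277).all fun i => Nat.beq (keyTree.find (keyC (entI i))) i) = true := by
  decide +kernel

end Cfsg.Agent.Co2Type.Local.Kill
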