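import Cfsg.Agent.Lib.Co2Type.Local.Kill.Roots
import Cfsg.Agent.Lib.Co2Type.Local.Main
import Cfsg.Agent.Lib.Co2Type.Local.Kill
import Cfsg.Agent.Lib.Co2Type.Local.Twist

/-!
The exclusion of the other classes: in the twisted case nothing remains, with exact coordinates only roots.
-/

set_option autoImplicit false
set_option maxRecDepth 100000

namespace Cfsg.Agent.Co2Type.Local

open Code End

universe uG

variable {G : Type uG} [Group G] [Finite G]

/-- With exact coordinates the conjugates of the involution are roots. -/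
theorem roots_exact {t : G} {χ : Q8 →* G} (S : Coo t χ) (ht : orderOf t = 2)
    (hcard : Nat.card (Subgroup.centralizer ({t} : Set G)) = 512 * 1451520) (φ : C0 →* G)
    (hinj : Function.Injective φ) (hrange : φ.range = Subgroup.centralizer ({t} : Set G))
    (htau : φ Code.tau = t) (hrel : ∀ x, Rel χ (φ x) x) (c : C0)
    (hc : ∃ g, g * φ Code.tau * g⁻¹ = φ c) : Root c := by
  have hmem : ∀ x, φ x ∈ Subgroup.centralizer ({t} : Set G) := fun x => hrange ▸ ⟨x, rfl⟩
  refine Kill.roots_of_split ⟨hinj, by rw [htau, hrange], fun g k hk hg => ?_, fun g x hg => ?_⟩ hc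
  · rw [htau] at hg
    have hr : φ k ∈ χ.range := S.mem_range (hmem k) (hrel k) hk
    have := weak_closure S ht g (by rw [hg]; exact hr)
    exact hinj (by rw [htau, ← hg, this])
  · rw [htau] at hg
    exact kill_free S ht hcard g x (by rw [hg]; exact hmem x) (by rw [hg]; exact hrel x)

/-- **The exclusion of the other classes.** -/
theorem excluded {t : G} {χ : Q8 →* G} (S : Coo t χ) (ht : orderOf t = 2)
    (hcard : Nat.card (Subgroup.centralizer ({t} : Set G)) = 512 * 1451520)
    (hpart : ∃ g : G, g * t * g⁻¹ ∈ Subgroup.centralizer ({t} : Set G) ∧ g * t * g⁻¹ ≠ t) : Excluded t χ :=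
  ⟨fun h => twist_false S ht h (fun g x hg hx => kill_free S ht hcard g x hg hx) hpart,
    fun φ hinj hrange htau hrel c hc => roots_exact S ht hcard φ hinj hrange htau hrel c hc⟩

end Cfsg.Agent.Co2Type.Local
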