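import Cfsg.Agent.Lib.Co2Type.Local.Kill.Transfer

/-!
What a subgroup over a second conjugate can share with the extraspecial group, and the automorphism parts of
its elements.
-/

set_option autoImplicit false
set_option maxRecDepth 100000

namespace Cfsg.Agent.Co2Type.Local.Kill

open Code

/-- The data for one representative. -/
structure KData where
  /-- the word -/
  xw : List (Fin 15)
  /-- the table -/
  tbl : Tbl
  /-- a basis of the fixed vectors modulo the centre -/
  base : List ℕ
  /-- the vectors a priori possible -/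
  first : List ℕ
  /-- vectors shown impossible by elements commuting with the representative -/
  kills : List (ℕ × List (Fin 15))
  /-- the automorphism parts found -/
  found : List ℕ

/-- The vectors left. -/
noncomputable def dropZ : List ℕ → List (ℕ × List (Fin 15)) → List ℕ
  | alive, [] => alive
  | alive, (z, _) :: ks => dropZ (alive.filter fun a => !Nat.beq a z) ks

/-- The vectors left for the data. -/
noncomputable def KData.left (d : KData) : List ℕ := dropZ d.first d.kills

/-- All vectors but the listed ones fail a test. -/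
noncomputable def meetOK (c : ℕ × List ℕ) (A : List ℕ) : Bool :=
  let U := (List.range 512).filter (fixN c)
  (List.range 512).all fun v => Nat.beq v 0 || Nat.beq v 256 || memN v A || !fixN c v ||
    !Nat.beq (qmulN v v) 0 || (U.any fun u => !commN u v) ||
      (List.range 512).any fun a => Nat.beq (qmulN a (invN (conjN c a))) v

/-- The successive removals are justified. -/
noncomputable def killOK (xw : List (Fin 15)) : List ℕ → List (ℕ × List (Fin 15)) → Bool
  | _, [] => true
  | alive, (z, e) :: ks => commW e xw && Nat.blt z 512 &&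
      (!memN (conjN (cw e) z) (0 :: alive) || !memN (qmulN z (conjN (cw e) z)) (0 :: alive)) &&
      killOK xw (alive.filter fun a => !Nat.beq a z) ks

/-- The displacements allowed on the basis. -/
noncomputable def KData.allow (d : KData) (b y : ℕ) : Bool :=
  !memN b d.base || memN (Nat.xor y b) ((0 :: d.left).map fun z => Nat.mod z 256)

/-- The tests on the data. -/
noncomputable def KData.okMeet (d : KData) : Bool :=
  d.tbl.ok && meetOK (cw d.xw) d.first && killOK d.xw d.first d.kills &&
    d.base.all fun b => Nat.blt b 256 && fixN (cw d.xw) b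

variable {d : KData} {R : Subgroup C0} (hR : RSet (el d.xw) R)
include hR

theorem meet_first {A : List ℕ} (h : meetOK (cw d.xw) A = true) {a : Q8}
    (ha : SemidirectProduct.inl a ∈ R) : a.n = 0 ∨ a.n ∈ A := by
  have h' := List.all_eq_true.1 h a.n (List.mem_range.2 a.lt)
  simp only [Bool.or_eq_true, Nat.beq_eq, memN_iff, List.any_eq_true, List.mem_filter, List.mem_range,
    Bool.not_eq_true'] at h'
  rcases h' with ((((((h' | h') | h') | h') | h') | ⟨u, ⟨hu, hfu⟩, h'⟩) | ⟨b, hb, h'⟩)
  · exact Or.inl h'
  · refine absurd ?_ hR.tau_not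
    rwa [tau_eq_inl, show zt = a from Q8.ext h'.symm]
  · exact Or.inr h'
  · have := fixN_of_comm (hR.comm _ ha).symm
    rw [code_el'] at this
    rw [this] at h'
    cases h'
  · have hsq : a * a = 1 := by
      rcases hR.sq _ ha with e | e
      · exact SemidirectProduct.inl_injective (φ := W.subtype) (by rw [map_mul, e, map_one])
      · have e' := congrArg SemidirectProduct.right e
        simp only [SemidirectProduct.mul_right, SemidirectProduct.right_inl, mul_one] at e'
        rw [← map_mul] at e
        rcases zt_sq_of a with e2 | e2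
        · exact e2
        · exact absurd (by rw [tau_eq_inl, ← e2, e]; exact hR.x_mem) hR.tau_not
    exact absurd (congrArg Q8.n hsq) (fun e => by rw [Q8.mul_n] at e; rw [e] at h'; cases h')
  · have hq : el d.xw * qi u = qi u * el d.xw :=
      comm_inl.2 (conjQ_eq_self_of_fixN (code_el' _) hu hfu)
    have hn := mul_mem (hR.normal (qi u) hq.symm _ ha) (inv_mem ha)
    rw [qi, ← map_inv, ← map_inv, ← map_mul, ← map_mul, ← map_mul] at hn
    have e1 : vq u * a * (vq u)⁻¹ * a⁻¹ = 1 := by
      by_contra hne
      refine hR.tau_not ?_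
      have hz : vq u * a * (vq u)⁻¹ * a⁻¹ = zt := by
        have hl : lo (vq u * a * (vq u)⁻¹ * a⁻¹) = lo (1 : Q8) := by
          rw [lo_mul, lo_mul, lo_mul, lo_inv, lo_inv, lo_one]
          exact Nat.eq_of_testBit_eq fun i => by simp [Bool.xor_comm]
        rcases eq_or_of_lo hl.symm with e | e
        · exact absurd e hne
        · rw [e, one_mul]
      rw [tau_eq_inl, ← hz]
      exact hn
    have e2 : vq u * a = a * vq u := by
      rw [mul_inv_eq_one] at e1
      exact (mul_inv_eq_iff_eq_mul.1 e1)
    refine absurd (congrArg Q8.n e2) fun e => ?_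
    rw [Q8.mul_n, Q8.mul_n, vq_n hu] at e
    rw [commN, e, Nat.beq_refl] at h'
    cases h'
  · refine Or.inl ?_
    have e : a = vq b * (conjQ (el d.xw) (vq b))⁻¹ := Q8.ext (by
      rw [Q8.mul_n, ← invN_eq, conjQ_n, code_el', vq_n hb]
      exact h'.symm)
    have hc : SemidirectProduct.inl a * el d.xw = qi b * el d.xw * (qi b)⁻¹ := by
      rw [e, map_mul, map_inv, conjQ_spec, qi]
      group
    have := hR.alone _ (mul_mem ha hR.x_mem) (isConj_iff.2 ⟨qi b, hc.symm⟩)
    exact congrArg Q8.n (SemidirectProduct.inl_injective (φ := W.subtype)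
      ((mul_eq_right.1 this).trans (map_one _).symm))

theorem meet_kills : ∀ (ks : List (ℕ × List (Fin 15))) (alive : List ℕ),
    killOK d.xw alive ks = true → (∀ a : Q8, SemidirectProduct.inl a ∈ R → a.n = 0 ∨ a.n ∈ alive) →
    ∀ a : Q8, SemidirectProduct.inl a ∈ R → a.n = 0 ∨ a.n ∈ dropZ alive ks
  | [], _, _, hA => hA
  | (z, e) :: ks, alive, h, hA => by
    simp only [killOK, Bool.and_eq_true, Nat.blt_eq, Bool.or_eq_true, Bool.not_eq_true'] at h
    obtain ⟨⟨⟨hc, hz⟩, hf⟩, hrest⟩ := h
    refine meet_kills ks _ hrest fun a ha => (hA a ha).imp_right fun hm => List.mem_filter.2 ⟨hm, ?_⟩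
    rw [Bool.not_eq_true', Bool.eq_false_iff]
    intro hb
    have haz : a.n = z := Nat.eq_of_beq_eq_true hb
    have hm2 : SemidirectProduct.inl (conjQ (el e) a) ∈ R := by
      rw [conjQ_spec]
      exact hR.normal _ (of_commW hc) _ ha
    have hm3 : SemidirectProduct.inl (a * conjQ (el e) a) ∈ R := by rw [map_mul]; exact mul_mem ha hm2
    have k2 := hA _ hm2
    have k3 := hA _ hm3
    rw [Q8.mul_n] at k3
    rw [conjQ_n, code_el', haz] at k2 k3
    rw [← List.mem_cons, ← memN_iff] at k2 k3
    rcases hf with hf | hf
    · rw [k2] at hf; cases hf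
    · rw [k3] at hf; cases hf

theorem meet_left (h : d.okMeet = true) {a : Q8} (ha : SemidirectProduct.inl a ∈ R) :
    a.n = 0 ∨ a.n ∈ d.left := by
  simp only [KData.okMeet, Bool.and_eq_true] at h
  exact meet_kills hR d.kills d.first h.1.2 (fun b hb => meet_first hR h.1.1.2 hb) a ha

/-- The automorphism parts move the basis only by what is left. -/
theorem allowed (h : d.okMeet = true) {r : C0} (hr : r ∈ R) :
    ∀ q ∈ d.tbl.levels, d.allow q.1 (lo (r.right.1 (vq q.1))) = true := by
  intro q _
  rw [KData.allow, Bool.or_eq_true, Bool.not_eq_true']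
  rcases hm : memN q.1 d.base with _ | _
  · exact Or.inl rfl
  refine Or.inr ?_
  have h' := h
  simp only [KData.okMeet, Bool.and_eq_true, List.all_eq_true, Nat.blt_eq] at h'
  obtain ⟨hb, hfix⟩ := h'.2 q.1 (memN_iff.1 hm)
  have hq : conjQ (el d.xw) (vq q.1) = vq q.1 :=
    conjQ_eq_self_of_fixN (code_el' _) (hb.trans (by norm_num)) hfix
  have hm2 : qi q.1 * r * (qi q.1)⁻¹ * r⁻¹ ∈ R := mul_mem (hR.normal _ (comm_inl.2 hq).symm _ hr) (inv_mem hr)
  have e : qi q.1 * r * (qi q.1)⁻¹ * r⁻¹ = SemidirectProduct.inl (vq q.1 * (conjQ r (vq q.1))⁻¹) := by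
    rw [map_mul, map_inv, conjQ_spec, qi]
    group
  rw [e] at hm2
  have hl := meet_left hR h hm2
  rw [← List.mem_cons] at hl
  rw [memN_iff, List.mem_map]
  refine ⟨_, hl, ?_⟩
  show lo _ = _
  rw [lo_mul, lo_inv, conjQ_lo, lo_vq hb]
  exact Nat.xor_comm _ _

/-- An element with trivial automorphism part is listed. -/
theorem eq_one_of_right (h : d.okMeet = true) (hleft : d.left = []) {r : C0} (hr : r ∈ R) (h1 : r.right = 1) :
    r = 1 := by
  have e := eq_inl_of_right h1
  rw [e] at hr
  rcases meet_left hR h hr with hn | hn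
  · rw [e, show r.left = 1 from Q8.ext hn, map_one]
  · rw [hleft] at hn
    cases hn

/-- The automorphism parts lie in the list found, which is at least as long as the subgroup is large. -/
theorem card_le_found (h : d.okMeet = true) (hleft : d.left = [])
    (hs : d.tbl.scan d.allow (fun p => !(p.map (appL (cw d.xw).2) == (cw d.xw).2.map (appL p)) ||
      d.found.any fun n => unp n == p) d.tbl.levels stdImg = true) :
    (∀ r ∈ R, imgs r.right.1 ∈ d.found.map unp) ∧ Nat.card R ≤ d.found.length ∧
      (d.found.length ≤ Nat.card R → ∀ n ∈ d.found, ∃ r ∈ R, imgs r.right.1 = unp n) := by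
  classical
  have hT : d.tbl.ok = true := by simp only [KData.okMeet, Bool.and_eq_true] at h; exact h.1.1.1
  have hmem : ∀ r ∈ R, imgs r.right.1 ∈ d.found.map unp := by
    intro r hr
    have h2 := forall_of_scan hT hs r.right (allowed hR h hr)
    have e1 := congrArg SemidirectProduct.right (hR.comm r hr)
    simp only [SemidirectProduct.mul_right] at e1
    have e2 := congrArg (fun w : ↥W => imgs w.1) e1
    simp only [Subgroup.coe_mul, imgs_mul] at e2
    rw [show imgs ((el d.xw).right : MulAut Q8) = (cw d.xw).2 from congrArg Prod.snd (code_el' d.xw)] at e2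
    simp only [Bool.or_eq_true, Bool.not_eq_true', List.any_eq_true, beq_iff_eq, beq_eq_false_iff_ne, ne_eq] at h2
    rcases h2 with h2 | ⟨n, hn, hn'⟩
    · exact absurd e2.symm h2
    · exact List.mem_map.2 ⟨n, hn, hn'⟩
  have := finite_C0
  let : Fintype R := Fintype.ofFinite _
  have inj : Function.Injective fun r : R => imgs r.1.right.1 := fun r s e => by
    have e' : (r.1⁻¹ * s.1).right = 1 := by
      rw [SemidirectProduct.mul_right, SemidirectProduct.inv_right, inv_mul_eq_one]
      exact Subtype.ext (imgs_injective e)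
    exact Subtype.ext (inv_mul_eq_one.1 (eq_one_of_right hR h hleft (mul_mem (inv_mem r.2) s.2) e'))
  have hsub : Finset.univ.image (fun r : R => imgs r.1.right.1) ⊆ (d.found.map unp).toFinset := fun p hp => by
    obtain ⟨r, -, rfl⟩ := Finset.mem_image.1 hp
    exact List.mem_toFinset.2 (hmem r.1 r.2)
  have hlen : (d.found.map unp).toFinset.card ≤ d.found.length :=
    (List.toFinset_card_le _).trans (by simp)
  have hc : (Finset.univ.image fun r : R => imgs r.1.right.1).card = Nat.card R := by
    rw [Finset.card_image_of_injective _ inj, Finset.card_univ, Nat.card_eq_fintype_card]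
  refine ⟨hmem, hc ▸ (Finset.card_le_card hsub).trans hlen, fun hle n hn => ?_⟩
  have e := Finset.eq_of_subset_of_card_le hsub (hlen.trans (hle.trans hc.ge))
  have : unp n ∈ Finset.univ.image fun r : R => imgs r.1.right.1 := by
    rw [e]
    exact List.mem_toFinset.2 (List.mem_map_of_mem hn)
  obtain ⟨r, -, hr⟩ := Finset.mem_image.1 this
  exact ⟨r.1, r.2, hr⟩

end Cfsg.Agent.Co2Type.Local.Kill
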