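import Cfsg.Agent.Lib.Co2Type.Local.Kill.Classes256
import Cfsg.Agent.Lib.Co2Type.Local.Kill.Eight
import Mathlib.Data.Set.Card

/-!
When the centraliser is the code group, the conjugates of the involution in it are roots: the eighth class is
impossible by a count of third conjugates over triangles.
-/

set_option autoImplicit false
set_option maxRecDepth 100000

namespace Cfsg.Agent.Co2Type.Local.Kill

open Code End

theorem beq_code (a : ℕ × List ℕ) : Roots.beqC a a = true := by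
  have h : ∀ l : List ℕ, Roots.beqL l l = true := fun l => by
    induction l with
    | nil => rfl
    | cons a l ih =>
      show (Nat.beq a a && Roots.beqL l l) = true
      rw [Nat.beq_refl, ih]
      rfl
  rw [Roots.beqC, Nat.beq_refl, h]
  rfl

theorem code_tau : code tau = (256, stdImg) := by
  rw [tau_eq_inl, code_inl]
  rfl

theorem conj_reps : IsConj (el (repW 7)) (el rootAW) ∧ IsConj (el (repW 4)) alpha ∧
    IsConj (el (repW 8)) (el (tauW ++ rootAW)) := by
  have h1 : Code.beqC (cw (rootAH ++ repW 7 ++ rootAH.reverse)) (cw rootAW) = true := by decide +kernel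
  have h2 : Code.beqC (cw (alphaH ++ repW 4 ++ alphaH.reverse)) (cw alphaW) = true := by decide +kernel
  have h3 : Code.beqC (cw ([9, 10, 14, 11, 12, 13, 8, 1] ++ repW 8 ++ [1, 8, 13, 12, 11, 14, 10, 9]))
      (cw (tauW ++ rootAW)) = true := by decide +kernel
  exact ⟨isConj_iff.2 ⟨el rootAH, by rw [el_conj]; exact el_of_cw h1⟩,
    isConj_iff.2 ⟨el alphaH, by rw [el_conj]; exact el_of_cw h2⟩,
    isConj_iff.2 ⟨el [9, 10, 14, 11, 12, 13, 8, 1], by rw [el_conj]; exact el_of_cw h3⟩⟩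

theorem blt_true {i n : ℕ} (h : i < n) : Nat.blt i n = true := by rw [Nat.blt_eq]; exact h

theorem blt_false {i n : ℕ} (h : n ≤ i) : Nat.blt i n = false := Bool.eq_false_iff.2 fun e => by
  rw [Nat.blt_eq] at e; omega

theorem exists_ent {i : ℕ} (hi : i < 3277) : ∃ c : C0, code c = entI i := by
  rcases Nat.lt_or_ge i 2269 with h | h
  · obtain ⟨c, hc, -⟩ := Roots.exists_code i h
    exact ⟨c, by rw [entI, blt_true h, cond_true, hc]⟩
  · obtain ⟨c, hc, -⟩ := Roots.exists_code (i - 2268) (by omega)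
    refine ⟨tau * c, ?_⟩
    rw [entI, blt_false h, cond_false, code_mul, code_tau, hc]
    rfl

/-- The element at a place. -/
noncomputable def ent (i : ℕ) : C0 := Classical.epsilon fun c => code c = entI i

theorem code_ent {i : ℕ} (hi : i < 3277) : code (ent i) = entI i :=
  Classical.epsilon_spec (p := fun c : C0 => code c = entI i) (exists_ent hi)

theorem find_ent {i : ℕ} (hi : i < 3277) : keyTree.find (keyC (entI i)) = i :=
  Nat.eq_of_beq_eq_true (List.all_eq_true.1 find_ok i (List.mem_range.2 hi))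

theorem ent_inj {i j : ℕ} (hi : i < 3277) (hj : j < 3277) (h : ent i = ent j) : i = j := by
  rw [← find_ent hi, ← find_ent hj, ← code_ent hi, ← code_ent hj, h]

theorem mem_places {h7 h4 : Bool} {i : ℕ} : i ∈ places h7 h4 ↔ inP h7 h4 i = true ∧ i < 3277 := by
  cases h7 <;> cases h4 <;>
    simp [places, inP, List.mem_range'_1, Nat.ble_eq, Nat.blt_eq] <;> omega

theorem places_nodup (h7 h4 : Bool) : (places h7 h4).Nodup := by
  cases h7 <;> cases h4 <;>
    simp [places, List.nodup_append, List.mem_range'_1, List.nodup_range'] <;> (repeat' constructor) <;> intros <;> omega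

theorem commP_iff {i j : ℕ} (hi : i < 3277) (hj : j < 3277) :
    commP i j = true ↔ ent i * ent j = ent j * ent i := by
  rw [commP, ← code_ent hi, ← code_ent hj, ← code_mul, ← code_mul]
  exact ⟨fun h => code_injective (Roots.beqC_eq h), fun h => by rw [h]; exact beq_code _⟩

theorem memP_iff {h7 h4 : Bool} {c : C0} :
    memP h7 h4 (code c) = true ↔ ∃ i ∈ places h7 h4, c = ent i := by
  simp only [memP, Bool.and_eq_true]
  constructor
  · rintro ⟨h1, h2⟩
    have hlt : keyTree.find (keyC (code c)) < 3277 := by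
      simp only [inP, Bool.or_eq_true, Bool.and_eq_true, Nat.beq_eq, Nat.ble_eq, Nat.blt_eq] at h1
      omega
    exact ⟨_, mem_places.2 ⟨h1, hlt⟩, code_injective ((Roots.beqC_eq h2).symm.trans (code_ent hlt).symm)⟩
  · rintro ⟨i, hi, rfl⟩
    obtain ⟨h1, h2⟩ := mem_places.1 hi
    rw [code_ent h2, find_ent h2]
    exact ⟨h1, beq_code _⟩

variable {G : Type*} [Group G]

/-- The elements third to `a` and `b` that commute with `e`. -/
def Third (t a b e : G) : Set G :=
  {z | (∃ g, g * t * g⁻¹ = z) ∧ z ≠ a ∧ z ≠ b ∧ z * a = a * z ∧ z * b = b * z ∧ z * e = e * z ∧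
    ∃ g, g * t * g⁻¹ = z * (a * b)}

theorem third_conj (t a b e m : G) :
    Third t (m * a * m⁻¹) (m * b * m⁻¹) (m * e * m⁻¹) = (fun z => m * z * m⁻¹) '' Third t a b e := by
  ext y
  obtain ⟨z, rfl⟩ : ∃ z, m * z * m⁻¹ = y := ⟨m⁻¹ * y * m, by group⟩
  have hinj : Function.Injective fun z => m * z * m⁻¹ := fun _ _ h => mul_left_cancel (mul_right_cancel h)
  rw [hinj.mem_set_image]
  have hg : ∀ x : G, (∃ g, g * t * g⁻¹ = m * x * m⁻¹) ↔ ∃ g, g * t * g⁻¹ = x := fun x =>
    ⟨fun ⟨g, h⟩ => ⟨m⁻¹ * g, by rw [show m⁻¹ * g * t * (m⁻¹ * g)⁻¹ = m⁻¹ * (g * t * g⁻¹) * m by group, h]; group⟩,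
      fun ⟨g, h⟩ => ⟨m * g, by rw [← h]; group⟩⟩
  have hc : ∀ x y : G, m * x * m⁻¹ * (m * y * m⁻¹) = m * (x * y) * m⁻¹ := fun _ _ => by group
  have he : ∀ x y : G, m * x * m⁻¹ = m * y * m⁻¹ ↔ x = y := fun _ _ => ⟨fun h => hinj h, fun h => by rw [h]⟩
  simp only [Third, Set.mem_ofPred_eq, hc, hg, he, ne_eq]

/-- The classes present and the eighth. -/
structure EightHyp (φ : C0 →* G) (h7 h4 : Bool) : Prop extends SplitHyp φ where
  omega : ∀ c, (∃ g, g * φ tau * g⁻¹ = φ c) ↔ ∃ i ∈ places h7 h4, c = ent i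

variable {φ : C0 →* G} {h7 h4 : Bool} (H : EightHyp φ h7 h4)
include H

omit H in
theorem ent_zero : ent 0 = tau := code_injective (by
  rw [code_ent (by norm_num), tau, code_el, ← Roots.start.1]
  rfl)

theorem EightHyp.ncard_third {a b e : ℕ} (ha : a ∈ places h7 h4) (hb : b ∈ places h7 h4)
    (he : e ∈ places h7 h4) (h0 : a = 0 ∨ b = 0 ∨ e = 0) :
    (Third (φ tau) (φ (ent a)) (φ (ent b)) (φ (ent e))).ncard =
      ((thirds h7 h4 a b).filter fun c => commP c e).length := by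
  classical
  set L := (thirds h7 h4 a b).filter fun c => commP c e
  have ha' := (mem_places.1 ha).2
  have hb' := (mem_places.1 hb).2
  have he' := (mem_places.1 he).2
  have hL : ∀ c, c ∈ L ↔ c ∈ places h7 h4 ∧ c ≠ a ∧ c ≠ b ∧ ent c * ent a = ent a * ent c ∧
      ent c * ent b = ent b * ent c ∧ ent c * ent e = ent e * ent c ∧
      ∃ i ∈ places h7 h4, ent c * (ent a * ent b) = ent i := by
    intro c
    simp only [L, thirds, List.mem_filter, Bool.and_eq_true, Bool.or_eq_true, Nat.beq_eq, Bool.not_eq_true',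
      Bool.eq_false_iff, ne_eq, and_assoc]
    refine and_congr_right fun hc => ?_
    have hc' := (mem_places.1 hc).2
    rw [← code_ent hc', ← code_ent ha', ← code_ent hb', ← code_mul, ← code_mul, memP_iff, commP_iff hc' hb',
      commP_iff hc' he']
    have h0' : a = 0 ∨ commP c a = true ↔ ent c * ent a = ent a * ent c := by
      rw [commP_iff hc' ha']
      refine ⟨fun h => h.elim (fun e => ?_) id, Or.inr⟩
      rw [e, ent_zero, H.tau_central]
    rw [h0']
    tauto
  have hset : Third (φ tau) (φ (ent a)) (φ (ent b)) (φ (ent e)) =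
      ((L.map fun c => φ (ent c)).toFinset : Set G) := by
    ext z
    simp only [Third, Set.mem_ofPred_eq, List.coe_toFinset, List.mem_map]
    constructor
    · rintro ⟨hz, hza, hzb, hca, hcb, hce, hp⟩
      obtain ⟨c, rfl⟩ : ∃ c, φ c = z := (H.range_eq ▸ Subgroup.mem_centralizer_singleton_iff.2 (by
        rcases h0 with rfl | rfl | rfl <;> simp only [ent_zero] at hca hcb hce <;> assumption) : z ∈ φ.range)
      obtain ⟨i, hi, rfl⟩ := (H.omega c).1 hz
      rw [← map_mul, ← map_mul] at hp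
      refine ⟨i, (hL i).2 ⟨hi, fun e => hza (by rw [e]), fun e => hzb (by rw [e]), H.inj (by simpa using hca),
        H.inj (by simpa using hcb), H.inj (by simpa using hce), (H.omega _).1 hp⟩, rfl⟩
    · rintro ⟨c, hc, rfl⟩
      obtain ⟨hc, hca', hcb', hca, hcb, hce, hp⟩ := (hL c).1 hc
      have hc' := (mem_places.1 hc).2
      refine ⟨(H.omega _).2 ⟨c, hc, rfl⟩, fun e => hca' (ent_inj hc' ha' (H.inj e)),
        fun e => hcb' (ent_inj hc' hb' (H.inj e)), by rw [← map_mul, hca, map_mul], by rw [← map_mul, hcb, map_mul],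
        by rw [← map_mul, hce, map_mul], ?_⟩
      rw [← map_mul, ← map_mul]
      exact (H.omega _).2 hp
  rw [hset, Set.ncard_coe_finset, List.toFinset_card_of_nodup, List.length_map]
  refine List.Nodup.map_on (fun x hx y hy e => ?_) (((places_nodup h7 h4).filter _).filter _)
  exact ent_inj (mem_places.1 ((hL x).1 hx).1).2 (mem_places.1 ((hL y).1 hy).1).2 (H.inj e)

omit H in
theorem ent_first {i : ℕ} (hi : i ∈ places h7 h4) (h0 : i ≠ 0) (htc : ∀ c : C0, c * tau = tau * c) :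
    ∃ r ∈ firsts h7 h4, IsConj (ent r) (ent i) := by
  obtain ⟨hS, hlt⟩ := mem_places.1 hi
  simp only [inP, Bool.or_eq_true, Bool.and_eq_true, Nat.beq_eq, Nat.ble_eq, Nat.blt_eq] at hS
  have hroot : ∀ {j : ℕ}, j < 2269 → code (ent j) = Roots.rootC j := fun {j} hj => by
    rw [code_ent (hj.trans (by norm_num)), entI, blt_true hj, cond_true]
  have h1 : ent 1 = el rootAW := code_injective (by rw [hroot (by norm_num), code_el, Roots.start.2.1])
  have hA : ∀ {j : ℕ}, 1 ≤ j → j < 1009 → IsConj (el rootAW) (ent j) := fun {j} h1 h2 =>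
    Roots.classA_iff.2 ⟨j, h1, by omega, hroot (by omega)⟩
  rcases hS with (((h | ⟨h, -⟩) | ⟨⟨h7', h⟩, h'⟩) | ⟨⟨h4', h⟩, h'⟩)
  · exact absurd h h0
  · refine ⟨2269, by simp [firsts], ?_⟩
    have hsplit : ∀ {j : ℕ}, 2269 ≤ j → j < 3277 → ent j = tau * ent (j - 2268) := fun {j} ha hb =>
      code_injective (by
        rw [code_ent hb, entI, blt_false ha, cond_false, code_mul, code_tau, hroot (by omega)]
        rfl)
    rw [hsplit le_rfl (by norm_num), hsplit h hlt, h1]
    obtain ⟨k, hk⟩ := isConj_iff.1 (hA (j := i - 2268) (by omega) (by omega))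
    exact isConj_iff.2 ⟨k, by rw [← hk, ← mul_assoc k tau, htc]; group⟩
  · exact ⟨1, by simp [firsts, h7'], h1 ▸ hA h h'⟩
  · refine ⟨1009, by simp [firsts, h4'], ?_⟩
    rw [show ent 1009 = alpha from code_injective (by rw [hroot (by norm_num), alpha, code_el, Roots.start.2.2])]
    exact Roots.classB_iff.2 ⟨i, h, h', hroot h'⟩

omit H in
theorem firsts_mem {r : ℕ} (hr : r ∈ firsts h7 h4) : r ∈ places h7 h4 ∧ (r = 2269 ∨ r = 1 ∨ r = 1009 ∧ h4 = true) := by
  cases h7 <;> cases h4 <;> simp [firsts] at hr <;> rcases hr with rfl | rfl | rfl <;>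
    simp [mem_places, inP, Nat.ble_eq, Nat.blt_eq]

theorem EightHyp.false : False := by
  have hd := case_ok h7 h4
  simp only [Bool.and_eq_true, highOK, lowOK, List.all_eq_true, Nat.beq_eq, beq_iff_eq] at hd
  obtain ⟨hlow, ⟨hcw, hwP⟩, hn⟩ := hd
  set w := (caseData h7 h4).1
  have hw' : w < 3277 ∧ w ≠ 2269 := by
    cases h7 <;> cases h4 <;> simp [w, caseData]
  have hw : w ∈ places h7 h4 := mem_places.2 ⟨hwP, hw'.1⟩
  have hu : 2269 ∈ places h7 h4 := mem_places.2 ⟨by simp [inP, Nat.ble_eq, Nat.blt_eq], by norm_num⟩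
  have h0 : 0 ∈ places h7 h4 := mem_places.2 ⟨by simp [inP], by norm_num⟩
  have huw := (commP_iff (by norm_num) hw'.1).1 hcw
  obtain ⟨g, hg⟩ := (H.omega _).2 ⟨2269, hu, rfl⟩
  obtain ⟨g', hg'⟩ := (H.omega _).2 ⟨w, hw, rfl⟩
  have hpre : ∀ z : G, z * φ tau = φ tau * z → ∃ c, φ c = z := fun z hz =>
    (H.range_eq ▸ Subgroup.mem_centralizer_singleton_iff.2 hz : z ∈ φ.range)
  obtain ⟨d, hd⟩ := hpre (g⁻¹ * φ (ent w) * g) (by
    calc g⁻¹ * φ (ent w) * g * φ tau = g⁻¹ * (φ (ent w) * (g * φ tau * g⁻¹)) * g := by group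
      _ = g⁻¹ * (g * φ tau * g⁻¹ * φ (ent w)) * g := by rw [hg, ← map_mul, ← huw, map_mul]
      _ = _ := by group)
  obtain ⟨i, hi, rfl⟩ := (H.omega d).1 ⟨g⁻¹ * g', by rw [hd, ← hg']; group⟩
  have hi0 : i ≠ 0 := by
    rintro rfl
    rw [ent_zero] at hd
    refine hw'.2 (ent_inj hw'.1 (by norm_num) (H.inj ?_))
    rw [← hg, hd]
    group
  obtain ⟨r, hr, hc⟩ := ent_first hi hi0 H.tau_central
  obtain ⟨z, hz⟩ := isConj_iff.1 hc
  obtain ⟨hrP, hr'⟩ := firsts_mem hr
  set m := (φ z)⁻¹ * g⁻¹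
  have hm1 : m * φ (ent 2269) * m⁻¹ = φ tau := by
    rw [← hg]
    calc m * (g * φ tau * g⁻¹) * m⁻¹ = (φ z)⁻¹ * (φ tau * φ z) := by simp only [m]; group
      _ = _ := by rw [← H.central, inv_mul_cancel_left]
  have hm2 : m * φ (ent w) * m⁻¹ = φ (ent r) := by
    calc m * φ (ent w) * m⁻¹ = (φ z)⁻¹ * (g⁻¹ * φ (ent w) * g) * φ z := by simp only [m]; group
      _ = _ := by rw [← hd, ← hz, map_mul, map_mul, map_inv]; group
  have hcm : ∀ {x y : C0}, x * y = y * x →
      m * φ x * m⁻¹ * (m * φ y * m⁻¹) = m * φ y * m⁻¹ * (m * φ x * m⁻¹) := fun {x y} h => by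
    calc m * φ x * m⁻¹ * (m * φ y * m⁻¹) = m * φ (x * y) * m⁻¹ := by rw [map_mul]; group
      _ = m * φ (y * x) * m⁻¹ := by rw [h]
      _ = _ := by rw [map_mul]; group
  obtain ⟨e, he⟩ := hpre (m * φ tau * m⁻¹) (by
    have h := hcm (H.tau_central (ent 2269)).symm
    rwa [hm1] at h)
  obtain ⟨j, hj, rfl⟩ := (H.omega e).1 ⟨m, he.symm⟩
  have hjr : ent j * ent r = ent r * ent j := H.inj (by
    rw [map_mul, map_mul, he, ← hm2]
    exact hcm (H.tau_central _).symm)
  have h1 := third_conj (φ tau) (φ (ent 2269)) (φ (ent w)) (φ tau) m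
  rw [hm1, hm2, ← he] at h1
  have h2 : (Third (φ tau) (φ tau) (φ (ent r)) (φ (ent j))).ncard =
      (Third (φ tau) (φ (ent 2269)) (φ (ent w)) (φ tau)).ncard := by
    rw [h1]
    exact Set.ncard_image_of_injective _ fun _ _ h => mul_left_cancel (mul_right_cancel h)
  have e1 := H.ncard_third h0 hrP hj (Or.inl rfl)
  have e2 := H.ncard_third hu hw h0 (Or.inr (Or.inr rfl))
  rw [ent_zero] at e1 e2
  have e3 : ((thirds h7 h4 2269 w).filter fun c => commP c 0) = thirds h7 h4 2269 w :=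
    List.filter_eq_self.2 fun c hc => by
      have hc' := (mem_places.1 (List.mem_filter.1 hc).1).2
      rw [commP_iff hc' (by norm_num), ent_zero, H.tau_central]
  rw [e1, e2, e3, hn, hlow r hr] at h2
  have hjr' : commP j r = true :=
    (commP_iff (mem_places.1 hj).2 (mem_places.1 hrP).2).2 hjr
  rcases hr' with rfl | rfl | ⟨rfl, h4'⟩
  · rw [show thirdsT 2269 = [] from rfl] at h2
    cases h7 <;> cases h4 <;> simp [caseData] at h2
  · rw [show thirdsT 1 = [] from rfl] at h2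
    cases h7 <;> cases h4 <;> simp [caseData] at h2
  · obtain ⟨n2, n4⟩ := lowW_all (mem_places.1 hj).2 hjr'
    rw [show thirdsT 1009 = thirds4 from rfl] at h2
    subst h4'
    cases h7
    · exact n4 h2
    · exact n2 h2

omit H in
/-- When the centraliser is the code group, the conjugates of the involution in it are roots. -/
theorem roots_of_split {φ : C0 →* G} (H : SplitHyp φ) {c : C0} (hc : ∃ g, g * φ tau * g⁻¹ = φ c) : Root c := by
  classical
  obtain ⟨c7, c4, c8⟩ := conj_reps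
  obtain ⟨g, hg⟩ := hc
  rcases H.cases3 hg with h | h | h | h
  · exact Or.inl h
  · exact Or.inr (Or.inr (c4.symm.trans h))
  · exact Or.inr (Or.inl (c7.symm.trans h))
  exfalso
  have hclosed : ∀ {a b : C0}, IsConj a b → (∃ g, g * φ tau * g⁻¹ = φ a) → ∃ g, g * φ tau * g⁻¹ = φ b := by
    intro a b hab ⟨g, hg⟩
    obtain ⟨k, rfl⟩ := isConj_iff.1 hab
    exact ⟨φ k * g, by rw [map_mul, map_mul, map_inv, ← hg]; group⟩
  have h8 : ∃ g, g * φ tau * g⁻¹ = φ (tau * el rootAW) := by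
    rw [show tau * el rootAW = el (tauW ++ rootAW) from (el_append _ _).symm]
    exact hclosed ((c8.symm.trans h).symm) ⟨g, hg⟩
  have hroot : ∀ {j : ℕ}, j < 2269 → code (ent j) = Roots.rootC j := fun {j} hj => by
    rw [code_ent (hj.trans (by norm_num)), entI, blt_true hj, cond_true]
  have hA : ∀ {d : C0}, IsConj (el rootAW) d ↔ ∃ i, 1 ≤ i ∧ i < 1009 ∧ d = ent i := fun {d} => by
    rw [Roots.classA_iff]
    exact ⟨fun ⟨i, a, b, e⟩ => ⟨i, a, by omega, code_injective (e.trans (hroot (by omega)).symm)⟩,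
      fun ⟨i, a, b, e⟩ => ⟨i, a, by omega, by rw [e, hroot (by omega)]⟩⟩
  have hB : ∀ {d : C0}, IsConj alpha d ↔ ∃ i, 1009 ≤ i ∧ i < 2269 ∧ d = ent i := fun {d} => by
    rw [Roots.classB_iff]
    exact ⟨fun ⟨i, a, b, e⟩ => ⟨i, a, b, code_injective (e.trans (hroot b).symm)⟩,
      fun ⟨i, a, b, e⟩ => ⟨i, a, b, by rw [e, hroot b]⟩⟩
  have h8' : ∀ {d : C0}, IsConj (tau * el rootAW) d ↔ ∃ i, 2269 ≤ i ∧ i < 3277 ∧ d = ent i := fun {d} => by
    have hsplit : ∀ {j : ℕ}, 2269 ≤ j → j < 3277 → ent j = tau * ent (j - 2268) := fun {j} ha hb =>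
      code_injective (by
        rw [code_ent hb, entI, blt_false ha, cond_false, code_mul, code_tau, hroot (by omega)]
        rfl)
    constructor
    · intro hd
      obtain ⟨k, rfl⟩ := isConj_iff.1 hd
      obtain ⟨i, a, b, e⟩ := hA.1 (isConj_iff.2 ⟨k, rfl⟩ : IsConj (el rootAW) (k * el rootAW * k⁻¹))
      refine ⟨i + 2268, by omega, by omega, ?_⟩
      rw [hsplit (by omega) (by omega), Nat.add_sub_cancel, ← e, ← mul_assoc k tau, H.tau_central]
      group
    · rintro ⟨i, a, b, rfl⟩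
      obtain ⟨k, hk⟩ := isConj_iff.1 (hA.2 ⟨i - 2268, by omega, by omega, rfl⟩)
      rw [hsplit a b, ← hk]
      exact isConj_iff.2 ⟨k, by rw [← mul_assoc k tau, H.tau_central]; group⟩
  refine EightHyp.false (φ := φ) (h7 := decide (∃ g, g * φ tau * g⁻¹ = φ (el rootAW)))
    (h4 := decide (∃ g, g * φ tau * g⁻¹ = φ alpha)) { toSplitHyp := H, omega := fun d => ⟨fun hd => ?_, ?_⟩ }
  · obtain ⟨g', hg'⟩ := hd
    rcases H.cases3 hg' with h' | h' | h' | h'
    · exact ⟨0, mem_places.2 ⟨by simp [inP], by norm_num⟩, h'.trans ent_zero.symm⟩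
    · obtain ⟨i, a, b, e⟩ := hB.1 (c4.symm.trans h')
      have := hclosed (c4.symm.trans h').symm ⟨g', hg'⟩
      exact ⟨i, mem_places.2 ⟨by simp [inP, this, Nat.ble_eq, Nat.blt_eq, a, b], by omega⟩, e⟩
    · obtain ⟨i, a, b, e⟩ := hA.1 (c7.symm.trans h')
      have := hclosed (c7.symm.trans h').symm ⟨g', hg'⟩
      exact ⟨i, mem_places.2 ⟨by simp [inP, this, Nat.ble_eq, Nat.blt_eq, a, b], by omega⟩, e⟩
    · obtain ⟨i, a, b, e⟩ := (h8' (d := d)).1 (by
        have := c8.symm.trans h'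
        rwa [el_append] at this)
      exact ⟨i, mem_places.2 ⟨by simp [inP, Nat.ble_eq, Nat.blt_eq, a, b], b⟩, e⟩
  · rintro ⟨i, hi, rfl⟩
    obtain ⟨hS, hlt⟩ := mem_places.1 hi
    simp only [inP, Bool.or_eq_true, Bool.and_eq_true, Nat.beq_eq, Nat.ble_eq, Nat.blt_eq, decide_eq_true_eq] at hS
    rcases hS with (((h' | ⟨a, b⟩) | ⟨⟨h', a⟩, b⟩) | ⟨⟨h', a⟩, b⟩)
    · exact ⟨1, by rw [h', ent_zero]; group⟩
    · exact hclosed (h8'.2 ⟨i, a, b, rfl⟩) h8
    · exact hclosed (hA.2 ⟨i, a, b, rfl⟩) h'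
    · exact hclosed (hB.2 ⟨i, a, b, rfl⟩) h'

end Cfsg.Agent.Co2Type.Local.Kill
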