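import Cfsg.Agent.Lib.Co2Type.Local.Kill.Meet
import Cfsg.Agent.Lib.Co2Type.Local.Kill.Data2
import Cfsg.Agent.Lib.Co2Type.Local.Kill.Data5
import Cfsg.Agent.Lib.Co2Type.Local.Kill.Data6
import Cfsg.Agent.Lib.Co2Type.Local.Kill.Data7
import Cfsg.Agent.Lib.Co2Type.Local.Kill.Data8

/-!
When the centraliser is the code group, no second conjugate of the involution is in the third, sixth or seventh
class of involutions.
-/

set_option autoImplicit false
set_option maxRecDepth 100000

namespace Cfsg.Agent.Co2Type.Local.Kill

open Code End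

/-- The test selecting the automorphism parts. -/
noncomputable def KData.chkFound (d : KData) (p : List ℕ) : Bool :=
  !(p.map (appL (cw d.xw).2) == (cw d.xw).2.map (appL p)) || d.found.any fun n => unp n == p

/-- No lift of a part whose square is the representative has all commutators in what is left. -/
noncomputable def KData.chkRoot (d : KData) (p : List ℕ) : Bool :=
  !(p.map (appL p) == (cw d.xw).2) || (List.range 512).all fun v =>
    !Code.beqC (mulC (v, p) (v, p)) (cw d.xw) || d.base.any fun u => !((0 :: d.left).any fun z =>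
      Code.beqC (mulC (v, p) (u, stdImg)) (mulC (z, stdImg) (mulC (u, stdImg) (v, p))))

/-- The chosen part squares to one. -/
noncomputable def imgOK (d : KData) (n : ℕ) : Bool :=
  memN n d.found && (unp n).map (appL (unp n)) == stdImg && !((cw d.xw).2 == stdImg)

/-- A product of two conjugate lifts that cannot be shared. -/
noncomputable def KData.badProd (d : KData) (q : ℕ × List ℕ) (h : List (Fin 15)) : Bool :=
  (q.2 == stdImg && !Nat.beq q.1 0) ||
    (!Code.beqC (mulC q (cw d.xw)) (cw d.xw) && Code.beqC (mulC q (cw d.xw)) (cw (h ++ d.xw ++ h.reverse)))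

/-- Every lift fails. -/
noncomputable def KData.liftsOK (d : KData) (n : ℕ) (cert : List (ℕ × List (Fin 15) × List (Fin 15))) : Bool :=
  (List.range 512).all fun v =>
    let r := (v, unp n)
    !Code.beqC (mulC r r) oneC || !Code.beqC (mulC r (cw d.xw)) (mulC (cw d.xw) r) ||
      (d.base.any fun u => !Code.beqC (mulC r (u, stdImg)) (mulC (u, stdImg) r)) ||
      cert.any fun p => Nat.beq p.1 v && commW p.2.1 d.xw &&
        d.badProd (mulC r (mulC (cw p.2.1) (mulC r (cw p.2.1.reverse)))) p.2.2

theorem data2_ok : (data2.okMeet && tbl2.scan data2.allow data2.chkRoot tbl2.levels stdImg) = true := by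
  decide +kernel

theorem data5_ok : (data5.okMeet && data5.left.isEmpty && tbl5.scan data5.allow data5.chkFound tbl5.levels stdImg &&
    Nat.ble data5.found.length 32 && imgOK data5 img5 && data5.liftsOK img5 cert5) = true := by
  decide +kernel

theorem data6_ok : (data6.okMeet && data6.left.isEmpty && tbl6.scan data6.allow data6.chkFound tbl6.levels stdImg &&
    Nat.ble data6.found.length 32 && imgOK data6 img6 && data6.liftsOK img6 cert6) = true := by
  decide +kernel

theorem data7_ok : (data7.okMeet && data7.left.isEmpty && tbl7.scan data7.allow data7.chkFound tbl7.levels stdImg &&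
    Nat.ble data7.found.length 32) = true := by
  decide +kernel

theorem data8_ok : (data8.okMeet && data8.left.isEmpty && tbl8.scan data8.allow data8.chkFound tbl8.levels stdImg &&
    Nat.ble data8.found.length 32) = true := by
  decide +kernel

theorem code_qi {v : ℕ} (hv : v < 512) : code (qi v) = (v, stdImg) := by
  rw [qi, code_inl, vq_n hv]

variable {d : KData} {R : Subgroup C0} (hR : RSet (el d.xw) R)
include hR

/-- With nothing left, elements commute with the basis. -/
theorem comm_base (h : d.okMeet = true) (hleft : d.left = []) {r : C0} (hr : r ∈ R) {u : ℕ} (hu : u ∈ d.base) :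
    r * qi u = qi u * r := by
  have h' := h
  simp only [KData.okMeet, Bool.and_eq_true, List.all_eq_true, Nat.blt_eq] at h'
  obtain ⟨hb, hf⟩ := h'.2 u hu
  have hq := comm_inl.2 (conjQ_eq_self_of_fixN (code_el' d.xw) (hb.trans (by norm_num)) hf)
  have e := eq_one_of_right hR h hleft (mul_mem (hR.normal (qi u) hq.symm _ hr) (inv_mem hr))
    (by simp [SemidirectProduct.mul_right, qi])
  rw [mul_inv_eq_one, mul_inv_eq_iff_eq_mul] at e
  exact e.symm

/-- A subgroup as large as the list is impossible. -/
theorem no_large (h : d.okMeet = true) (hleft : d.left = []) {n : ℕ}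
    (hs : d.tbl.scan d.allow d.chkFound d.tbl.levels stdImg = true)
    {cert : List (ℕ × List (Fin 15) × List (Fin 15))} (hi : imgOK d n = true) (hl : d.liftsOK n cert = true)
    (hle : d.found.length ≤ Nat.card R) : False := by
  simp only [imgOK, Bool.and_eq_true, memN_iff, beq_iff_eq, Bool.not_eq_true', beq_eq_false_iff_ne, ne_eq] at hi
  obtain ⟨⟨hn, hsq⟩, hx1⟩ := hi
  obtain ⟨r, hr, hrn⟩ := (card_le_found hR h hleft hs).2.2 hle n hn
  have hcr : code r = (r.left.n, unp n) := Prod.ext rfl hrn
  have hrr : r * r = 1 := (hR.sq r hr).resolve_right fun e => hx1 (by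
    have := congrArg Prod.snd (congrArg code e)
    rw [code_mul, hcr, code_el'] at this
    exact this.symm.trans hsq)
  have h' := List.all_eq_true.1 hl r.left.n (List.mem_range.2 r.left.lt)
  simp only [← hcr, Bool.or_eq_true, Bool.not_eq_true', List.any_eq_true, Bool.and_eq_true, Nat.beq_eq] at h'
  rcases h' with ((h' | h') | ⟨u, hu, h'⟩) | ⟨p, -, ⟨⟨-, hcm⟩, hbad⟩⟩
  · rw [← code_mul, hrr, code_one, beqC_iff.2 rfl] at h'
    cases h'
  · rw [← code_el', ← code_mul, ← code_mul, hR.comm r hr, beqC_iff.2 rfl] at h'
    cases h'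
  · have hu' : u < 512 := by
      have h2 := h
      simp only [KData.okMeet, Bool.and_eq_true, List.all_eq_true, Nat.blt_eq] at h2
      exact (h2.2 u hu).1.trans (by norm_num)
    rw [← code_qi hu', ← code_mul, ← code_mul, comm_base hR h hleft hr hu, beqC_iff.2 rfl] at h'
    cases h'
  · have hq : r * (el p.2.1 * r * (el p.2.1)⁻¹) ∈ R := mul_mem hr (hR.normal _ (of_commW hcm) _ hr)
    set q := r * (el p.2.1 * r * (el p.2.1)⁻¹) with hqd
    have hqc : code q = mulC (code r) (mulC (cw p.2.1) (mulC (code r) (cw p.2.1.reverse))) := by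
      rw [hqd, el_reverse, mul_assoc (el p.2.1), code_mul, code_mul, code_mul, code_el', code_el']
    rw [← hqc] at hbad
    simp only [KData.badProd, Bool.or_eq_true, Bool.and_eq_true, beq_iff_eq, Bool.not_eq_true'] at hbad
    rcases hbad with ⟨e, hne⟩ | ⟨hne, e⟩
    · have h1 : q.right = 1 := Subtype.ext (imgs_injective
        ((show imgs q.right.1 = stdImg from e).trans (congrArg Prod.snd code_one).symm))
      rw [eq_one_of_right hR h hleft hq h1, code_one] at hne
      cases hne
    · rw [beqC_iff, ← code_el', ← code_mul, ← code_el'] at e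
      rw [← code_el', ← code_mul] at hne
      have := hR.alone _ (mul_mem hq hR.x_mem)
        (isConj_iff.2 ⟨el p.2.2, by rw [el_conj]; exact (code_injective e).symm⟩)
      rw [this, beqC_iff.2 rfl] at hne
      cases hne

/-- The third class: no square root. -/
theorem no_root (h : d.okMeet = true) (hs : d.tbl.scan d.allow d.chkRoot d.tbl.levels stdImg = true) {r : C0}
    (hr : r ∈ R) (hrr : r * r = el d.xw) : False := by
  have hT : d.tbl.ok = true := by simp only [KData.okMeet, Bool.and_eq_true] at h; exact h.1.1.1
  have h2 := forall_of_scan hT hs r.right (allowed hR h hr)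
  have e := congrArg code hrr
  rw [code_mul, code_el'] at e
  have hsq : (imgs r.right.1).map (appL (imgs r.right.1)) = (cw d.xw).2 := congrArg Prod.snd e
  simp only [KData.chkRoot, hsq, beq_self_eq_true, Bool.not_true, Bool.false_or, List.all_eq_true] at h2
  have h3 := h2 r.left.n (List.mem_range.2 r.left.lt)
  simp only [show (r.left.n, imgs r.right.1) = code r from rfl, e, beqC_iff.2, Bool.not_true, Bool.false_or,
    List.any_eq_true, Bool.not_eq_true', Bool.eq_false_iff, ne_eq, not_exists, not_and, beqC_iff] at h3
  obtain ⟨u, hu, h3⟩ := h3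
  have h' := h
  simp only [KData.okMeet, Bool.and_eq_true, List.all_eq_true, Nat.blt_eq] at h'
  obtain ⟨hb, hf⟩ := h'.2 u hu
  have hq := comm_inl.2 (conjQ_eq_self_of_fixN (code_el' d.xw) (hb.trans (by norm_num)) hf)
  have hm := mul_mem hr (hR.normal (qi u) hq.symm _ (inv_mem hr))
  have e2 : r * (qi u * r⁻¹ * (qi u)⁻¹) = SemidirectProduct.inl (conjQ r (vq u) * (vq u)⁻¹) := by
    rw [map_mul, map_inv, conjQ_spec, qi]
    group
  rw [e2] at hm
  have hl := meet_left hR h hm
  rw [← List.mem_cons] at hl
  refine h3 _ hl ?_
  rw [← code_qi (hb.trans (by norm_num)), ← code_inl, ← code_mul, ← code_mul, ← code_mul, ← e2]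
  refine congrArg code ?_
  group

end Cfsg.Agent.Co2Type.Local.Kill
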