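import Cfsg.Agent.Lib.Co2Type.Local.Kill.Chain
import Cfsg.Agent.Lib.Co2Type.Local.Rules
import Cfsg.Agent.Lib.Co2Type.End.Data

/-!
Tests on codes for conjugation on the extraspecial group and the fixed vectors of the representatives.
-/

set_option autoImplicit false
set_option maxRecDepth 100000

namespace Cfsg.Agent.Co2Type.Local.Kill

open Code

/-- The inverse of a vector. -/
noncomputable def invN (x : ℕ) : ℕ := Nat.xor x (Nat.shiftLeft (betaN x x) 8)

/-- Conjugation by a code. -/
noncomputable def conjN (c : ℕ × List ℕ) (v : ℕ) : ℕ := qmulN (qmulN c.1 (appL c.2 v)) (invN c.1)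

/-- A vector is fixed. -/
noncomputable def fixN (c : ℕ × List ℕ) (v : ℕ) : Bool := Nat.beq (conjN c v) v

/-- Two vectors commute. -/
noncomputable def commN (u v : ℕ) : Bool := Nat.beq (qmulN u v) (qmulN v u)

/-- A number is listed. -/
noncomputable def memN (v : ℕ) (l : List ℕ) : Bool := l.any fun z => Nat.beq z v

theorem memN_iff {v : ℕ} {l : List ℕ} : memN v l = true ↔ v ∈ l := by simp [memN]

theorem invN_eq (a : Q8) : invN a.n = (a⁻¹).n := by
  have h : qmulN a.n 0 = a.n := by simp [qmulN_eq, beta, kz]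
  show a.n ^^^ (betaN a.n a.n <<< 8) = a.n ^^^ kz (beta a.n a.n)
  have e := qmulN_eq a.n a.n
  change Nat.xor (Nat.xor a.n a.n) (betaN a.n a.n <<< 8) = a.n ^^^ a.n ^^^ kz (beta a.n a.n) at e
  have := congrArg (fun n => a.n ^^^ n) e
  simpa using this

theorem conjQ_n (y : C0) (v : Q8) : (conjQ y v).n = conjN (code y) v.n := by
  rw [conjQ_apply, Q8.mul_n, Q8.mul_n, ← invN_eq, apply_eq]
  rfl

theorem code_el' (w : List (Fin 15)) : code (el w) = cw w := by rw [code_el, cw_eq]

/-- An element of the extraspecial group by its number. -/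
noncomputable def qi (v : ℕ) : C0 := SemidirectProduct.inl (vq v)

theorem code_inl (a : Q8) : code (SemidirectProduct.inl a : C0) = (a.n, stdImg) :=
  Prod.ext rfl (congrArg Prod.snd code_one : imgs ((1 : ↥W) : MulAut Q8) = stdImg)

theorem vq_n {v : ℕ} (hv : v < 512) : (vq v).n = v := Nat.mod_eq_of_lt hv

theorem eq_vq (a : Q8) : vq a.n = a := Q8.ext (Nat.mod_eq_of_lt a.lt)

theorem eq_inl_of_right {y : C0} (h : y.right = 1) : y = SemidirectProduct.inl y.left :=
  SemidirectProduct.ext rfl (by simpa using h)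

theorem comm_inl {y : C0} {a : Q8} : y * SemidirectProduct.inl a = SemidirectProduct.inl a * y ↔ conjQ y a = a := by
  rw [← SemidirectProduct.inl_inj (φ := W.subtype), conjQ_spec, mul_inv_eq_iff_eq_mul]

theorem conjQ_eq_self_of_fixN {y : C0} {c : ℕ × List ℕ} (hc : code y = c) {v : ℕ} (hv : v < 512)
    (h : fixN c v = true) : conjQ y (vq v) = vq v := Q8.ext (by
  rw [conjQ_n, hc, vq_n hv]
  exact Nat.eq_of_beq_eq_true h)

theorem fixN_of_comm {y : C0} {a : Q8} (h : y * SemidirectProduct.inl a = SemidirectProduct.inl a * y) :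
    fixN (code y) a.n = true := by
  rw [fixN, ← conjQ_n, comm_inl.1 h]
  exact Nat.beq_refl _

theorem lo_right (y : C0) (a : Q8) : lo (y.right.1 a) = conjN (code y) a.n % 256 := by
  rw [← conjQ_lo, ← conjQ_n]
  rfl

/-- The orders of the centralisers in the extraspecial group and the square roots of the involution. -/
theorem fix_count : ∀ j : Fin 10, j.val ∈ [2, 3, 4, 5, 6, 7, 8, 9] →
    (Nat.ble 16 ((List.range 512).filter (fixN (cw (End.repW j)))).length &&
      (Nat.beq j.val 3 || Nat.beq j.val 9 ||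
        Nat.ble 32 ((List.range 512).filter (fixN (cw (End.repW j)))).length) &&
      (!Nat.beq j.val 2 || Nat.ble 64 ((List.range 512).filter (fixN (cw (End.repW j)))).length) &&
      (!(Nat.beq j.val 2 || Nat.beq j.val 4) ||
        (List.range 512).any fun v => fixN (cw (End.repW j)) v && Nat.beq (qmulN v v) 256)) = true := by
  decide +kernel

end Cfsg.Agent.Co2Type.Local.Kill
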