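import Cfsg.Agent.Lib.Co2Type.Local.Kill.Tools
import Cfsg.Agent.Lib.Co2Type.Local.Classes
import Mathlib.GroupTheory.SemidirectProduct

/-!
When the centraliser is the code group, a second conjugate of the involution carries the extraspecial group of
the first to a subgroup with strong properties.
-/

set_option autoImplicit false
set_option maxRecDepth 100000

namespace Cfsg.Agent.Co2Type.Local.Kill

open Code End

/-- The part of the extraspecial group fixed by an element. -/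
noncomputable def FixQ (y : C0) : Subgroup C0 :=
  (SemidirectProduct.rightHom : C0 →* ↥W).ker ⊓ Subgroup.centralizer {y}

theorem mem_FixQ {y k : C0} : k ∈ FixQ y ↔ k.right = 1 ∧ k * y = y * k := by
  simp [FixQ, Subgroup.mem_inf, MonoidHom.mem_ker, Subgroup.mem_centralizer_singleton_iff]

theorem qi_mem_FixQ {y : C0} {v : ℕ} (hv : v < 512) (h : fixN (code y) v = true) : qi v ∈ FixQ y :=
  mem_FixQ.2 ⟨by simp [qi], (comm_inl.2 (conjQ_eq_self_of_fixN rfl hv h)).symm⟩

theorem FixQ_conj {x y z k : C0} (hy : z * x * z⁻¹ = y) (hk : k ∈ FixQ x) : z * k * z⁻¹ ∈ FixQ y := by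
  obtain ⟨h1, h2⟩ := mem_FixQ.1 hk
  refine mem_FixQ.2 ⟨by simp [SemidirectProduct.mul_right, h1], ?_⟩
  subst hy
  calc z * k * z⁻¹ * (z * x * z⁻¹) = z * (k * x) * z⁻¹ := by group
    _ = z * (x * k) * z⁻¹ := by rw [h2]
    _ = _ := by group

/-- The subgroup over a second conjugate `x`: it meets the conjugacy class of `x` only in `x`. -/
structure RSet (x : C0) (R : Subgroup C0) : Prop where
  x_mem : x ∈ R
  tau_not : tau ∉ R
  sq : ∀ r ∈ R, r * r = 1 ∨ r * r = x
  comm : ∀ r ∈ R, r * x = x * r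
  alone : ∀ r ∈ R, IsConj x r → r = x
  normal : ∀ e, e * x = x * e → ∀ r ∈ R, e * r * e⁻¹ ∈ R

/-- A version with sizes, for the representative of a class. -/
structure RSize (x x' : C0) (R : Subgroup C0) : Prop extends RSet x R where
  card_le : Nat.card (FixQ x') ≤ Nat.card R
  root : ∀ k ∈ FixQ x', k * k = tau → ∃ r ∈ R, r * r = x

theorem inl_sq_cases (k : C0) (h : k.right = 1) : k * k = 1 ∨ k * k = tau := by
  rw [eq_inl_of_right h, ← map_mul, tau_eq_inl]
  rcases zt_sq_of k.left with e | e <;> rw [e]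
  · exact Or.inl (map_one _)
  · exact Or.inr rfl

variable {G : Type*} [Group G] (φ : C0 →* G) (hinj : Function.Injective φ)
  (hrange : φ.range = Subgroup.centralizer ({φ tau} : Set G))
  (hweak : ∀ g (k : C0), k.right = 1 → g * φ tau * g⁻¹ = φ k → k = tau)
include hinj hrange hweak

theorem exists_rset {g : G} {x x' : C0} (hu : g * φ x * g⁻¹ = φ tau) (hu' : g * φ tau * g⁻¹ = φ x')
    (hx : x ≠ tau) : ∃ R, RSize x x' R := by
  have htc : ∀ c : C0, φ c * φ tau = φ tau * φ c := fun c =>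
    Subgroup.mem_centralizer_singleton_iff.1 (hrange ▸ (⟨c, rfl⟩ : φ c ∈ φ.range))
  have hpre : ∀ z : G, z * φ tau = φ tau * z → ∃ c, φ c = z := fun z hz =>
    (hrange ▸ Subgroup.mem_centralizer_singleton_iff.2 hz : z ∈ φ.range)
  let R : Subgroup C0 := Subgroup.comap ((MulAut.conj g).toMonoidHom.comp φ) ((FixQ x').map φ)
  have memR : ∀ r, r ∈ R ↔ ∃ k, k.right = 1 ∧ k * x' = x' * k ∧ g * φ r * g⁻¹ = φ k := fun r => by
    simp only [R, Subgroup.mem_comap, MonoidHom.comp_apply, MulEquiv.coe_toMonoidHom, MulAut.conj_apply,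
      Subgroup.mem_map]
    exact ⟨fun ⟨k, hk, e⟩ => ⟨k, (mem_FixQ.1 hk).1, (mem_FixQ.1 hk).2, e.symm⟩,
      fun ⟨k, h1, h2, e⟩ => ⟨k, mem_FixQ.2 ⟨h1, h2⟩, e.symm⟩⟩
  have hback : ∀ k : C0, k * x' = x' * k → ∃ r, g * φ r * g⁻¹ = φ k := fun k hk => by
    obtain ⟨r, hr⟩ := hpre (g⁻¹ * φ k * g) (by
      calc g⁻¹ * φ k * g * φ tau = g⁻¹ * (φ k * (g * φ tau * g⁻¹)) * g := by group
        _ = g⁻¹ * (g * φ tau * g⁻¹ * φ k) * g := by rw [hu', ← map_mul, hk, map_mul]
        _ = _ := by group)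
    exact ⟨r, by rw [hr]; group⟩
  have hgt : ∀ e, g * φ e * g⁻¹ * φ x' = φ x' * (g * φ e * g⁻¹) := fun e => by
    rw [← hu']
    calc g * φ e * g⁻¹ * (g * φ tau * g⁻¹) = g * (φ e * φ tau) * g⁻¹ := by group
      _ = g * (φ tau * φ e) * g⁻¹ := by rw [htc]
      _ = _ := by group
  have htm : tau.right = 1 := by rw [tau_eq_inl]; simp
  refine ⟨R, ⟨⟨?_, ?_, ?_, ?_, ?_, ?_⟩, ?_, ?_⟩⟩
  · exact (memR x).2 ⟨tau, htm, hinj (by rw [map_mul, map_mul, htc]), hu⟩
  · intro h
    obtain ⟨k, h1, -, e⟩ := (memR _).1 h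
    have := hweak g k h1 e
    rw [this] at e
    exact hx (hinj (mul_left_cancel (mul_right_cancel (hu.trans e.symm))))
  · intro r hr
    obtain ⟨k, h1, -, e⟩ := (memR r).1 hr
    rcases inl_sq_cases k h1 with h | h
    · refine Or.inl (hinj ?_)
      have : g * φ (r * r) * g⁻¹ = 1 := by
        rw [map_mul, ← map_one φ, ← h, map_mul, ← e]; group
      rw [map_one]
      exact conj_eq_one_iff.1 this
    · refine Or.inr (hinj ?_)
      have : g * φ (r * r) * g⁻¹ = g * φ x * g⁻¹ := by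
        rw [hu, ← h, map_mul, map_mul, ← e]; group
      exact mul_left_cancel (mul_right_cancel this)
  · intro r hr
    obtain ⟨k, -, -, e⟩ := (memR r).1 hr
    refine hinj (mul_left_cancel (mul_right_cancel (?_ : g * φ (r * x) * g⁻¹ = g * φ (x * r) * g⁻¹)))
    calc g * φ (r * x) * g⁻¹ = g * φ r * g⁻¹ * (g * φ x * g⁻¹) := by rw [map_mul]; group
      _ = φ k * φ tau := by rw [e, hu]
      _ = φ tau * φ k := htc k
      _ = g * φ x * g⁻¹ * (g * φ r * g⁻¹) := by rw [e, hu]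
      _ = _ := by rw [map_mul]; group
  · intro r hr hc
    obtain ⟨k, h1, -, e⟩ := (memR r).1 hr
    obtain ⟨z, hz⟩ := isConj_iff.1 hc
    have hk : k = tau := hweak (g * φ z * g⁻¹) k h1 (by
      rw [← e, ← hu, ← hz, map_mul, map_mul, map_inv]; group)
    rw [hk, ← hu] at e
    exact hinj (mul_left_cancel (mul_right_cancel e))
  · intro a ha r hr
    obtain ⟨k, h1, h2, e⟩ := (memR r).1 hr
    obtain ⟨f, hf⟩ := hpre (g * φ a * g⁻¹) (by
      rw [← hu]
      calc g * φ a * g⁻¹ * (g * φ x * g⁻¹) = g * φ (a * x) * g⁻¹ := by rw [map_mul]; group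
        _ = g * φ (x * a) * g⁻¹ := by rw [ha]
        _ = _ := by rw [map_mul]; group)
    have hfx : f * x' = x' * f := hinj (by rw [map_mul, map_mul, hf]; exact hgt a)
    have hk : f * k * f⁻¹ ∈ FixQ x' := FixQ_conj (by rw [hfx, mul_inv_cancel_right]) (mem_FixQ.2 ⟨h1, h2⟩)
    obtain ⟨h3, h4⟩ := mem_FixQ.1 hk
    refine (memR _).2 ⟨f * k * f⁻¹, h3, h4, ?_⟩
    rw [map_mul, map_mul, map_mul, map_mul, map_inv, map_inv, hf, ← e]
    group
  · have := finite_C0
    choose f hf using hback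
    refine Nat.card_le_card_of_injective (fun k => (⟨f k.1 (mem_FixQ.1 k.2).2, (memR _).2
      ⟨k.1, (mem_FixQ.1 k.2).1, (mem_FixQ.1 k.2).2, hf _ _⟩⟩ : R)) fun a b h => Subtype.ext (hinj ?_)
    have h' := congrArg Subtype.val h
    rw [← hf a.1 (mem_FixQ.1 a.2).2, ← hf b.1 (mem_FixQ.1 b.2).2]
    exact congrArg (fun r => g * φ r * g⁻¹) h'
  · intro k hk hkk
    obtain ⟨h1, h2⟩ := mem_FixQ.1 hk
    obtain ⟨r, hr⟩ := hback k h2
    refine ⟨r, (memR r).2 ⟨k, h1, h2, hr⟩, hinj (mul_left_cancel (mul_right_cancel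
      (?_ : g * φ (r * r) * g⁻¹ = g * φ x * g⁻¹)))⟩
    rw [hu, ← hkk, map_mul, map_mul, ← hr]
    group

end Cfsg.Agent.Co2Type.Local.Kill
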